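import Groth.Agent.Lib.PLie.Jacobson
import Groth.Agent.Lib.PBW.Iso
import Mathlib.Algebra.Lie.Abelian
import Mathlib.SetTheory.Cardinal.Order

/-!
# Elementary facts on `p`-mappings, existence from a basis
-/

universe u v w

namespace GrothLib.PLie

open LieAlgebra

attribute [local instance 100] LieRing.ofAssociativeRing

variable {R : Type u} [CommRing R] {p : ℕ} [Fact p.Prime] [CharP R p] {L : Type v} [LieRing L] [LieAlgebra R L]

omit [Fact p.Prime] in
lemma bracketWord_map {L' : Type w} [LieRing L'] [LieAlgebra R L'] (f : L →ₗ⁅R⁆ L') (x y : L) (l : List Bool) :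
    f (_root_.PLie.bracketWord (_root_.PLie.pair x y) y l) =
      _root_.PLie.bracketWord (_root_.PLie.pair (f x) (f y)) (f y) l := by
  induction l with
  | nil => rfl
  | cons i l ih =>
    rw [_root_.PLie.bracketWord_cons, LieHom.map_lie, ih, _root_.PLie.bracketWord_cons]
    cases i <;> rfl

omit [Fact p.Prime] in
lemma jacobson_map {L' : Type w} [LieRing L'] [LieAlgebra R L'] (f : L →ₗ⁅R⁆ L') (x y : L) :
    f (_root_.PLie.jacobson R p x y) = _root_.PLie.jacobson R p (f x) (f y) := by
  simp only [_root_.PLie.jacobson, map_sum, map_smul]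
  exact Finset.sum_congr rfl fun t _ => by rw [bracketWord_map]

lemma list_ofFn_ne_nil (t : Fin (p - 1) → Bool) : List.ofFn t ≠ [] := by
  have := (Fact.out : p.Prime).two_le
  intro h
  have h' := congrArg List.length h
  simp at h'
  omega

omit [Fact p.Prime] in
lemma bracketWord_eq_zero_of_comm {x y : L} (h : ⁅x, y⁆ = 0) :
    ∀ l : List Bool, l ≠ [] → _root_.PLie.bracketWord (_root_.PLie.pair x y) y l = 0 := by
  intro l hl
  induction l with
  | nil => exact absurd rfl hl
  | cons i l ih =>
    rw [_root_.PLie.bracketWord_cons]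
    rcases eq_or_ne l [] with rfl | h0
    · cases i
      · exact h
      · exact lie_self y
    · rw [ih h0, lie_zero]

lemma jacobson_eq_zero_of_comm {x y : L} (h : ⁅x, y⁆ = 0) : _root_.PLie.jacobson R p x y = 0 :=
  Finset.sum_eq_zero fun t _ => by rw [bracketWord_eq_zero_of_comm h _ (list_ofFn_ne_nil t), smul_zero]

omit [Fact p.Prime] in
lemma bracketWord_smul (c : R) (x y : L) : ∀ l : List Bool,
    _root_.PLie.bracketWord (_root_.PLie.pair (c • x) (c • y)) (c • y) l =
      c ^ (l.length + 1) • _root_.PLie.bracketWord (_root_.PLie.pair x y) y l := by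
  intro l
  induction l with
  | nil => simp
  | cons i l ih =>
    rw [_root_.PLie.bracketWord_cons, ih, _root_.PLie.bracketWord_cons, List.length_cons, pow_succ' c (l.length + 1)]
    cases i <;>
    · show ⁅c • _, _⁆ = _
      rw [smul_lie, lie_smul, smul_smul]
      rfl

lemma ad_jacobson (x y : L) :
    ad R L (x + y) ^ p = ad R L x ^ p + ad R L y ^ p - ad R L (_root_.PLie.jacobson R p x y) :=
  map_add_pow (e := (ad R L : L →ₗ[R] Module.End R L)) (fun a b => LinearMap.ext fun z => lie_lie a b z) x y

omit [Fact p.Prime] in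
lemma map_ad_pow {L' : Type w} [LieRing L'] [LieAlgebra R L'] (f : L →ₗ⁅R⁆ L') (x w : L) (n : ℕ) :
    f ((ad R L x ^ n) w) = (ad R L' (f x) ^ n) (f w) := by
  induction n with
  | zero => rfl
  | succ n ih =>
    rw [pow_succ', pow_succ', Module.End.mul_apply, Module.End.mul_apply, ad_apply, ad_apply, LieHom.map_lie, ih]

variable (φ : _root_.PLie.PMap R p L)

omit [Fact p.Prime] in
lemma pmap_lie (x w : L) : ⁅φ x, w⁆ = (ad R L x ^ p) w := by
  rw [← φ.ad_map x, ad_apply]

lemma pmap_zero : φ (0 : L) = 0 := by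
  have := φ.map_smul 0 0
  rwa [zero_pow (Fact.out : p.Prime).ne_zero, zero_smul, zero_smul] at this

omit [Fact p.Prime] in
lemma ad_iterate (n : ℕ) (x : L) : ad R L (φ.toFun^[n] x) = ad R L x ^ p ^ n := by
  induction n with
  | zero => simp
  | succ n ih => rw [Function.iterate_succ_apply', φ.ad_map, ih, ← pow_mul, pow_succ]

omit [Fact p.Prime] in
lemma map_sum_eq_of_agree {ι : Type*} (φ ψ : _root_.PLie.PMap R p L) (x : ι → L) (h : ∀ i, φ (x i) = ψ (x i))
    (h0 : φ (0 : L) = ψ (0 : L)) (c : ι → R) (s : Finset ι) :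
    φ (∑ i ∈ s, c i • x i) = ψ (∑ i ∈ s, c i • x i) := by
  classical
  induction s using Finset.induction with
  | empty => simpa using h0
  | insert i s hi ih =>
    rw [Finset.sum_insert hi, φ.map_add, ψ.map_add, ih, φ.map_smul, ψ.map_smul, h i]

lemma ext_of_basis {ι : Type w} (b : Module.Basis ι R L) (φ ψ : _root_.PLie.PMap R p L)
    (h : ∀ i, φ (b i) = ψ (b i)) : φ = ψ := by
  have key : ∀ x, φ x = ψ x := fun x => by
    rw [← b.linearCombination_repr x, Finsupp.linearCombination_apply]
    exact map_sum_eq_of_agree φ ψ b h ((pmap_zero φ).trans (pmap_zero ψ).symm) _ _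
  obtain ⟨f, h1, h2, h3⟩ := φ
  obtain ⟨g, h4, h5, h6⟩ := ψ
  obtain rfl : f = g := funext key
  rfl

/-- Existence of a `p`-mapping with prescribed values on a basis. -/
theorem exists_of_basis {ι : Type w} (b : Module.Basis ι R L) (y : ι → L)
    (hy : ∀ i, ad R L (b i) ^ p = ad R L (y i)) : ∃ φ : _root_.PLie.PMap R p L, ∀ i, φ (b i) = y i := by
  classical
  let : LinearOrder ι := linearOrderOfSTO WellOrderingRel
  let U := UniversalEnvelopingAlgebra R L
  let e : L →ₗ[R] U :=
    { toFun := UniversalEnvelopingAlgebra.ι R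
      map_add' := fun a c => map_add (UniversalEnvelopingAlgebra.ι R) a c
      map_smul' := fun r a => map_smul (UniversalEnvelopingAlgebra.ι R) r a }
  have hcomm : ∀ a c : L, e ⁅a, c⁆ = e a * e c - e c * e a := fun a c =>
    (UniversalEnvelopingAlgebra.ι R).map_lie a c
  have hinj : Function.Injective e := by
    intro a c h
    have h1 := congrArg (fun q : U => GrothLib.PBW.ev b q) h
    have h2 : ∀ z : L, GrothLib.PBW.ev b (e z) = GrothLib.PBW.ρaux b z (GrothLib.PBW.z (0 : Multiset ι)) := fun z => by
      show UniversalEnvelopingAlgebra.lift R (GrothLib.PBW.rep b) (UniversalEnvelopingAlgebra.ι R z) (GrothLib.PBW.z 0) = _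
      rw [UniversalEnvelopingAlgebra.lift_ι_apply]
      rfl
    simp only [h2] at h1
    refine b.repr.injective (Finsupp.ext fun i => ?_)
    have key : ∀ z : L, (GrothLib.PBW.ρaux b z (GrothLib.PBW.z (0 : Multiset ι))) {i} = b.repr z i := fun z => by
      have hb : ∀ j, GrothLib.PBW.ρaux b (b j) (GrothLib.PBW.z (0 : Multiset ι)) = Finsupp.single ({j} : Multiset ι) (1 : R) := fun j => by
        rw [GrothLib.PBW.ρaux_basis, GrothLib.PBW.act_of_le b (by simp)]
        rfl
      conv_lhs => rw [← b.linearCombination_repr z]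
      simp [Finsupp.linearCombination_apply, Finsupp.sum, map_sum, hb, Finsupp.single_apply,
        Multiset.singleton_inj]
      exact fun h => h.symm
    rw [← key a, ← key c, h1]
  -- the semilinear correction
  let δ : ι → U := fun i => e (b i) ^ p - e (y i)
  let η : L → U := fun x => (b.repr x).sum fun i c => c ^ p • δ i
  have hη0 : ∀ i, (0 : R) ^ p • δ i = 0 := fun i => by
    rw [zero_pow (Fact.out : p.Prime).ne_zero, zero_smul]
  have hηadd : ∀ a c, η (a + c) = η a + η c := fun a c => by
    simp only [η, map_add]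
    rw [Finsupp.sum_add_index' hη0 fun i r s => by rw [add_pow_char, add_smul]]
  have hηsmul : ∀ (r : R) a, η (r • a) = r ^ p • η a := fun r a => by
    simp only [η, map_smul, Finsupp.smul_sum]
    rw [Finsupp.sum_smul_index hη0]
    exact Finsupp.sum_congr fun i _ => by rw [mul_pow, mul_smul]
  have hηb : ∀ i, η (b i) = δ i := fun i => by
    simp [η, hη0 i]
  have hexists : ∀ x, ∃ z, e z = e x ^ p - η x := by
    intro x
    rw [← b.linearCombination_repr x, Finsupp.linearCombination_apply, Finsupp.sum]
    generalize (b.repr x).support = s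
    generalize (⇑(b.repr x)) = c
    induction s using Finset.induction with
    | empty =>
      refine ⟨0, ?_⟩
      rw [Finset.sum_empty, map_zero, zero_pow (Fact.out : p.Prime).ne_zero]
      simp [η]
    | insert i s hi ih =>
      obtain ⟨z, hz⟩ := ih
      refine ⟨c i ^ p • y i + z - _root_.PLie.jacobson R p (c i • b i) (∑ j ∈ s, c j • b j), ?_⟩
      rw [Finset.sum_insert hi, map_add_pow e hcomm, hηadd, hηsmul, hηb, map_sub, map_add, hz,
        map_smul e (c i) (b i), smul_pow, map_smul e (c i ^ p) (y i), smul_sub]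
      abel
  choose φ hφ using hexists
  have hcent : ∀ (x : L) (w : L), η x * e w - e w * η x = 0 := by
    intro x w
    have hδ : ∀ i, δ i * e w - e w * δ i = 0 := by
      intro i
      have h1 : ∀ n, ((fun q : U => e (b i) * q - q * e (b i))^[n]) (e w) = e ((ad R L (b i) ^ n) w) := by
        intro n
        induction n with
        | zero => rfl
        | succ n ih => rw [Function.iterate_succ_apply', ih, pow_succ', Module.End.mul_apply, ad_apply, hcomm]
      let Lm : Module.End ℤ U := LinearMap.mulLeft ℤ (e (b i))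
      let Rm : Module.End ℤ U := LinearMap.mulRight ℤ (e (b i))
      have hpU : (p : U) = 0 := natCast_p_eq_zero (R := R)
      have hpE : (p : Module.End ℤ U) = 0 := LinearMap.ext fun q => by
        rw [LinearMap.zero_apply, Module.End.natCast_apply, nsmul_eq_mul, hpU, zero_mul]
      have hLR : Commute Lm Rm := LinearMap.commute_mulLeft_right (R := ℤ) _ _
      have h2 : (Lm - Rm) ^ p = Lm ^ p - Rm ^ p := by
        have h := sub_pow_pred hpE hLR
        calc (Lm - Rm) ^ p = (Lm - Rm) * (Lm - Rm) ^ (p - 1) := by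
              rw [← pow_succ', Nat.sub_add_cancel (Fact.out : p.Prime).pos]
          _ = Lm ^ p - Rm ^ p := by rw [h, hLR.mul_geom_sum₂]
      have h3 : ((Lm - Rm) ^ p) (e w) = e ((ad R L (b i) ^ p) w) := by
        rw [← h1, Module.End.coe_pow]
        rfl
      rw [h2, LinearMap.sub_apply, LinearMap.pow_mulLeft, LinearMap.pow_mulRight, LinearMap.mulLeft_apply,
        LinearMap.mulRight_apply, hy, ad_apply, hcomm] at h3
      simp only [δ, sub_mul, mul_sub]
      linear_combination (norm := abel) h3
    simp only [η, Finsupp.sum]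
    rw [Finset.sum_mul, Finset.mul_sum, ← Finset.sum_sub_distrib]
    exact Finset.sum_eq_zero fun i _ => by rw [smul_mul_assoc, mul_smul_comm, ← smul_sub, hδ, smul_zero]
  refine ⟨⟨φ, fun r x => hinj ?_, fun x => LinearMap.ext fun w => hinj ?_, fun x z => hinj ?_⟩, fun i => hinj ?_⟩
  · rw [hφ, hηsmul, map_smul, smul_pow, ← smul_sub, ← hφ, map_smul]
  · rw [ad_apply, hcomm, hφ]
    have h1 : ∀ n, ((fun q : U => e x * q - q * e x)^[n]) (e w) = e ((ad R L x ^ n) w) := by
      intro n
      induction n with
      | zero => rfl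
      | succ n ih => rw [Function.iterate_succ_apply', ih, pow_succ', Module.End.mul_apply, ad_apply, hcomm]
    let Lm : Module.End ℤ U := LinearMap.mulLeft ℤ (e x)
    let Rm : Module.End ℤ U := LinearMap.mulRight ℤ (e x)
    have hpU : (p : U) = 0 := natCast_p_eq_zero (R := R)
    have hpE : (p : Module.End ℤ U) = 0 := LinearMap.ext fun q => by
      rw [LinearMap.zero_apply, Module.End.natCast_apply, nsmul_eq_mul, hpU, zero_mul]
    have hLR : Commute Lm Rm := LinearMap.commute_mulLeft_right (R := ℤ) _ _
    have h2 : (Lm - Rm) ^ p = Lm ^ p - Rm ^ p := by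
      have h := sub_pow_pred hpE hLR
      calc (Lm - Rm) ^ p = (Lm - Rm) * (Lm - Rm) ^ (p - 1) := by
            rw [← pow_succ', Nat.sub_add_cancel (Fact.out : p.Prime).pos]
        _ = Lm ^ p - Rm ^ p := by rw [h, hLR.mul_geom_sum₂]
    have h3 : ((Lm - Rm) ^ p) (e w) = e ((ad R L x ^ p) w) := by
      rw [← h1, Module.End.coe_pow]
      rfl
    rw [h2, LinearMap.sub_apply, LinearMap.pow_mulLeft, LinearMap.pow_mulRight, LinearMap.mulLeft_apply,
      LinearMap.mulRight_apply] at h3
    rw [← h3, sub_mul, mul_sub]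
    linear_combination (norm := abel) -(hcent x w)
  · rw [hφ, map_add_pow e hcomm, hηadd, map_sub, map_add, hφ, hφ]
    abel
  · rw [hφ, hηb]
    simp [δ]

end GrothLib.PLie
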