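import Groth.Agent.Lib.PLie.Basic
import Mathlib.Algebra.DualNumber
import Mathlib.Tactic.FinCases
import Mathlib.Tactic.Ring
import Mathlib.Tactic.LinearCombination
import Mathlib.Algebra.Ring.GeomSum

/-!
# Restrictability of first order deformations of three dimensional Lie algebras
-/

universe u v

namespace GrothLib.PLie

open LieAlgebra TrivSqZeroExt DualNumber

variable {K : Type u} [Field K] {p : ℕ} [Fact p.Prime] [CharP (DualNumber K) p]
  {L : Type v} [LieRing L] [LieAlgebra (DualNumber K) L] (bs : Module.Basis (Fin 3) (DualNumber K) L)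

/-- The six coordinates of a vector over the base field. -/
noncomputable def crd (v : L) (i : Fin 3) : K × K := (fst (bs.repr v i), snd (bs.repr v i))

omit [Fact p.Prime] [CharP (DualNumber K) p] in
lemma ext_crd {v w : L} (h : ∀ i, crd bs v i = crd bs w i) : v = w :=
  bs.ext_elem fun i => TrivSqZeroExt.ext (congrArg Prod.fst (h i)) (congrArg Prod.snd (h i))

omit [Fact p.Prime] [CharP (DualNumber K) p] in
lemma expand (w : L) : ∃ a b c : DualNumber K, w = a • bs 0 + b • bs 1 + c • bs 2 :=
  ⟨_, _, _, by rw [← Fin.sum_univ_three (f := fun i => bs.repr w i • bs i), bs.sum_repr]⟩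

include bs in
lemma nonempty_pmap_iff :
    Nonempty (_root_.PLie.PMap (DualNumber K) p L) ↔
      ∀ j : Fin 3, ∃ w : L, ∀ i : Fin 3,
        ⁅w, bs i⁆ = (ad (DualNumber K) L (bs j) ^ p) (bs i) := by
  constructor
  · rintro ⟨φ⟩ j
    exact ⟨φ (bs j), fun i => pmap_lie φ _ _⟩
  · intro h
    choose y hy using h
    obtain ⟨φ, -⟩ := exists_of_basis bs y fun j => bs.ext fun i => by rw [ad_apply, hy]
    exact ⟨φ⟩

end GrothLib.PLie
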