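import Groth.Prelude.Def_PLie
import Mathlib.Algebra.Polynomial.Derivative
import Mathlib.Algebra.CharP.Lemmas
import Mathlib.Algebra.Algebra.Basic
import Mathlib.RingTheory.NonUnitalSubring.Basic
import Mathlib.Algebra.BigOperators.Fin
import Mathlib.Logic.Equiv.Fin.Basic
import Mathlib.Data.Fintype.BigOperators
import Mathlib.Tactic.NoncommRing
import Mathlib.Tactic.LinearCombination
import Mathlib.Data.Nat.Choose.Dvd
import Mathlib.Algebra.Polynomial.Degree.SmallDegree
import Mathlib.Algebra.Polynomial.Degree.Lemmas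
import Mathlib.Algebra.Module.LinearMap.Basic

/-!
# Jacobson's formula
-/

universe u v w

namespace GrothLib.PLie

open Polynomial

/-- In `ZMod p` the binomial coefficients `(p-1).choose m` are `(-1)^m`. -/
lemma choose_pred_eq (p : ℕ) [Fact p.Prime] : ∀ m, m ≤ p - 1 → (((p - 1).choose m : ℕ) : ZMod p) = (-1) ^ m := by
  intro m
  induction m with
  | zero => simp
  | succ m ih =>
    intro hm
    have hp := (Fact.out : p.Prime)
    have h1 : p.choose (m + 1) = (p - 1).choose m + (p - 1).choose (m + 1) := by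
      conv_lhs => rw [← Nat.sub_add_cancel hp.pos]
      exact Nat.choose_succ_succ' _ _
    have h2 : ((p.choose (m + 1) : ℕ) : ZMod p) = 0 := by
      rw [ZMod.natCast_eq_zero_iff]
      exact hp.dvd_choose_self (by omega) (by omega)
    rw [h1, Nat.cast_add, ih (by omega)] at h2
    rw [pow_succ]
    linear_combination h2

section Comm

variable {E : Type*} [Ring E] {p : ℕ} [Fact p.Prime]

lemma sub_pow_pred (hp0 : (p : E) = 0) {x y : E} (h : Commute x y) :
    (x - y) ^ (p - 1) = ∑ i ∈ Finset.range p, x ^ i * y ^ (p - 1 - i) := by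
  have hp := (Fact.out : p.Prime)
  rw [sub_eq_add_neg, h.neg_right.add_pow, Nat.sub_add_cancel hp.pos]
  refine Finset.sum_congr rfl fun i hi => ?_
  rw [Finset.mem_range] at hi
  haveI : CharP (ZMod p) p := ZMod.charP p
  have key : (((-1) ^ (p - 1 - i) * ((p - 1).choose i : ℤ) - 1 : ℤ) : E) = 0 := by
    have h0 : (((-1) ^ (p - 1 - i) * ((p - 1).choose i : ℤ) - 1 : ℤ) : ZMod p) = 0 := by
      push_cast
      rw [← Nat.choose_symm (by omega : i ≤ p - 1), choose_pred_eq p _ (by omega), ← pow_add, ← two_mul, pow_mul]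
      simp
    obtain ⟨d, hd⟩ := (ZMod.intCast_zmod_eq_zero_iff_dvd _ p).1 h0
    rw [hd]
    push_cast
    rw [hp0, zero_mul]
  push_cast at key
  rw [neg_pow, mul_assoc, mul_assoc]
  congr 1
  calc (-1) ^ (p - 1 - i) * (y ^ (p - 1 - i) * ((p - 1).choose i : E))
      = ((-1) ^ (p - 1 - i) * ((p - 1).choose i : E)) * y ^ (p - 1 - i) := by
        rw [← (Nat.cast_commute ((p - 1).choose i) (y ^ (p - 1 - i))).eq, mul_assoc]
    _ = y ^ (p - 1 - i) := by rw [sub_eq_zero.1 key, one_mul]

end Comm

section Assoc

variable {R : Type u} [CommRing R] {p : ℕ} [Fact p.Prime] [CharP R p] {A : Type w} [Ring A] [Algebra R A]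

include R in
lemma natCast_p_eq_zero : (p : A) = 0 := by
  rw [← map_natCast (algebraMap R A), CharP.cast_eq_zero R p, map_zero]

/-- Commutator. -/
def comm (a b : A) : A := a * b - b * a

/-- Iterated commutator along a word. -/
def word (a b : A) : List Bool → A
  | [] => b
  | i :: l => comm (if i then b else a) (word a b l)

/-- The coefficient of Jacobson's sum. -/
noncomputable def coefJ (R : Type u) [CommRing R] (p : ℕ) [CharP R p] (r : ℕ) : R :=
  ZMod.castHom (dvd_refl p) R ((r : ZMod p)⁻¹)

lemma card_false_cons {n : ℕ} (i : Bool) (t : Fin n → Bool) :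
    Fintype.card {j // (Fin.consEquiv fun _ : Fin (n + 1) => Bool) (i, t) j = false} =
      (if i = false then 1 else 0) + Fintype.card {j // t j = false} := by
  simp only [Fintype.card_subtype, Finset.card_filter, Fin.consEquiv, Equiv.coe_fn_mk]
  rw [Fin.sum_univ_succ]
  simp

lemma ad_pow_expand (a b : A) (n : ℕ) :
    (fun q : A[X] => comm (C a * X + C b) q)^[n] (C b) =
      ∑ t : Fin n → Bool, monomial (Fintype.card {i // t i = false}) (word a b (List.ofFn t)) := by
  induction n with
  | zero =>
    rw [Fintype.sum_unique]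
    simp [word, monomial_zero_left]
  | succ n ih =>
    rw [Function.iterate_succ_apply', ih, ← (Fin.consEquiv fun _ => Bool).sum_comp, Fintype.sum_prod_type,
      Fintype.sum_bool]
    simp only [card_false_cons]
    simp only [Fin.consEquiv, Equiv.coe_fn_mk, List.ofFn_cons, word, if_true, Bool.false_eq_true,
      if_false, reduceIte, reduceCtorEq, zero_add, comm, Finset.mul_sum, Finset.sum_mul, ← Finset.sum_sub_distrib,
      ← Finset.sum_add_distrib]
    refine Finset.sum_congr rfl fun t _ => ?_
    rw [C_mul_X_eq_monomial, ← monomial_zero_left, add_mul, mul_add]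
    simp only [monomial_mul_monomial, zero_add, add_zero, map_sub]
    rw [Nat.add_comm (Fintype.card {i // t i = false}) 1]
    abel

variable (R p) in
/-- Jacobson's sum in an associative algebra. -/
noncomputable def assocJ (a b : A) : A :=
  ∑ t : Fin (p - 1) → Bool, coefJ R p (Fintype.card {i // t i = false}) • word a b (List.ofFn t)

lemma derivative_pow_eq (a b : A) (n : ℕ) :
    derivative ((C a * X + C b) ^ n) =
      ∑ i ∈ Finset.range n, (C a * X + C b) ^ i * C a * (C a * X + C b) ^ (n - 1 - i) := by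
  induction n with
  | zero => simp
  | succ n ih =>
    rw [pow_succ, derivative_mul, ih, Finset.sum_range_succ, Finset.sum_mul]
    have : derivative (C a * X + C b) = C a := by simp
    rw [this]
    congr 1
    · refine Finset.sum_congr rfl fun i hi => ?_
      rw [Finset.mem_range] at hi
      rw [mul_assoc, ← pow_succ]
      congr 2
      omega
    · simp

omit [Fact p.Prime] in
lemma natDegree_pow_le_p (a b : A) : ((C a * X + C b) ^ p).natDegree ≤ p :=
  natDegree_pow_le.trans (le_trans (Nat.mul_le_mul_left p (natDegree_linear_le)) (by simp))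

lemma coeff_pow_top (a b : A) (n : ℕ) : ((C a * X + C b) ^ n).coeff n = a ^ n := by
  have := coeff_pow_of_natDegree_le (p := C a * X + C b) (n := 1) (m := n) natDegree_linear_le
  simpa using this

lemma coeff_pow_zero (a b : A) (n : ℕ) : ((C a * X + C b) ^ n).coeff 0 = b ^ n := by
  induction n with
  | zero => simp
  | succ n ih => rw [pow_succ, mul_coeff_zero, ih, pow_succ]; simp

variable (R p) in
/-- Jacobson's formula. -/
theorem add_pow_eq (a b : A) : (a + b) ^ p = a ^ p + b ^ p - assocJ R p a b := by
  classical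
  have hp := (Fact.out : p.Prime)
  have hpA : (p : A) = 0 := natCast_p_eq_zero (R := R)
  have hpP : (p : A[X]) = 0 := by rw [← map_natCast C, hpA, map_zero]
  set Y : A[X] := C a * X + C b with hY
  -- `ad Y ^ (p-1)` as a sum
  let Lm : Module.End ℤ A[X] := LinearMap.mulLeft ℤ Y
  let Rm : Module.End ℤ A[X] := LinearMap.mulRight ℤ Y
  have hLR : Commute Lm Rm := LinearMap.ext fun q => (mul_assoc _ _ _).symm
  have hEp : (p : Module.End ℤ A[X]) = 0 := LinearMap.ext fun q => by
    rw [LinearMap.zero_apply, Module.End.natCast_apply, nsmul_eq_mul, hpP, zero_mul]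
  have hsum := sub_pow_pred hEp hLR
  have hiter : ∀ (n : ℕ) (q : A[X]), ((Lm - Rm) ^ n) q = (fun q : A[X] => comm Y q)^[n] q := fun n q => by
    induction n with
    | zero => rfl
    | succ n ih => rw [pow_succ', Module.End.mul_apply, ih, Function.iterate_succ_apply']; rfl
  have hder : derivative (Y ^ p) = ((Lm - Rm) ^ (p - 1)) (C a) := by
    rw [hsum, derivative_pow_eq, LinearMap.sum_apply]
    refine Finset.sum_congr rfl fun i _ => ?_
    rw [Module.End.mul_apply, LinearMap.pow_mulRight, LinearMap.pow_mulLeft, LinearMap.mulRight_apply,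
      LinearMap.mulLeft_apply, mul_assoc]
  have hX : derivative (Y ^ p) * X = -((Lm - Rm) ^ (p - 1)) (C b) := by
    rw [hder]
    have hmX : ∀ q, ((Lm - Rm) ^ (p - 1)) (q * X) = ((Lm - Rm) ^ (p - 1)) q * X := fun q => by
      rw [hsum, LinearMap.sum_apply, LinearMap.sum_apply, Finset.sum_mul]
      refine Finset.sum_congr rfl fun i _ => ?_
      simp only [Module.End.mul_apply, Lm, Rm, LinearMap.pow_mulRight, LinearMap.pow_mulLeft,
        LinearMap.mulRight_apply, LinearMap.mulLeft_apply]
      rw [mul_assoc q X, (commute_X (Y ^ (p - 1 - i))).eq]; simp only [mul_assoc]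
    rw [← hmX, ← map_neg]
    obtain ⟨m, hm⟩ : ∃ m, p - 1 = m + 1 := ⟨p - 2, by have := hp.two_le; omega⟩
    rw [hm, pow_succ, Module.End.mul_apply, Module.End.mul_apply]
    congr 1
    show Y * (C a * X) - C a * X * Y = Y * (-C b) - (-C b) * Y
    rw [show C a * X = Y - C b from eq_sub_of_add_eq hY.symm]
    noncomm_ring
  have hW : ((Lm - Rm) ^ (p - 1)) (C b) =
      ∑ t : Fin (p - 1) → Bool, monomial (Fintype.card {i // t i = false}) (word a b (List.ofFn t)) := by
    rw [hiter]; exact ad_pow_expand a b _
  -- apply the functional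
  let Λ : A[X] →ₗ[R] A := Polynomial.lsum fun r => coefJ R p r • (LinearMap.id : A →ₗ[R] A)
  have hΛm : ∀ r x, Λ (monomial r x) = coefJ R p r • x := fun r x => by
    simp [Λ, Polynomial.lsum_apply, Polynomial.sum_monomial_index]
  have hJ : assocJ R p a b = -Λ (derivative (Y ^ p) * X) := by
    rw [hX, map_neg, neg_neg, hW, map_sum]
    simp only [hΛm, assocJ]
  have hdeg : (Y ^ p).natDegree < p + 1 := Nat.lt_succ_of_le (natDegree_pow_le_p a b)
  have hcoefJ : ∀ r, 1 ≤ r → r < p → coefJ R p r * (r : R) = 1 := by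
    intro r h1 h2
    have hne : IsUnit ((r : ℕ) : ZMod p) := (ZMod.isUnit_iff_coprime r p).2
      (hp.coprime_iff_not_dvd.2 fun h => by have := Nat.le_of_dvd (by omega) h; omega).symm
    rw [coefJ, ← map_natCast (ZMod.castHom (dvd_refl p) R) r, ← map_mul, ZMod.inv_mul_of_unit _ hne, map_one]
  have hcoef0 : ∀ r, r = 0 ∨ r = p → coefJ R p r = 0 := by
    rintro r (h | h) <;> rw [coefJ, h] <;> simp [ZMod.inv_zero]
  have hΛ : Λ (derivative (Y ^ p) * X) = ∑ r ∈ Finset.Ico 1 p, (Y ^ p).coeff r := by
    conv_lhs => rw [Polynomial.as_sum_range' (Y ^ p) (p + 1) hdeg]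
    rw [map_sum, Finset.sum_mul, map_sum, Finset.range_eq_Ico, Finset.sum_Ico_succ_top (Nat.zero_le p),
      Finset.sum_eq_sum_Ico_succ_bot hp.pos]
    have hterm : ∀ r, Λ (derivative (monomial r ((Y ^ p).coeff r)) * X) = (coefJ R p r * (r : R)) • (Y ^ p).coeff r := by
      intro r
      rcases r with _ | r
      · simp
      · rw [derivative_monomial, show (X : A[X]) = monomial 1 1 from (monomial_one_one_eq_X).symm,
          monomial_mul_monomial, mul_one, Nat.succ_sub_one, hΛm, mul_smul]
        congr 1
        rw [Algebra.smul_def, map_natCast]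
        exact (Nat.cast_commute _ _).symm.eq
    simp only [hterm, hcoef0 0 (Or.inl rfl), hcoef0 p (Or.inr rfl), zero_mul, zero_smul, zero_add, add_zero]
    refine Finset.sum_congr rfl fun r hr => ?_
    rw [Finset.mem_Ico] at hr
    rw [hcoefJ r (by omega) hr.2, one_smul]
  have heval : (a + b) ^ p = ∑ r ∈ Finset.range (p + 1), (Y ^ p).coeff r := by
    have : ∀ n, (Y ^ n).eval 1 = (a + b) ^ n := fun n => by
      induction n with
      | zero => simp
      | succ n ih =>
        rw [pow_succ, hY, mul_add, ← mul_assoc, ← hY, eval_add, eval_mul_X,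
          eval_mul_C_of_commute (Commute.one_right a), eval_mul_C_of_commute (Commute.one_right b), ih, mul_one,
          pow_succ, mul_add]
    rw [← this, eval_eq_sum_range' hdeg]
    simp
  rw [heval, hJ, hΛ, Finset.range_eq_Ico, Finset.sum_Ico_succ_top (Nat.zero_le p),
    Finset.sum_eq_sum_Ico_succ_bot hp.pos, coeff_pow_top, coeff_pow_zero, sub_neg_eq_add]
  abel

variable {L : Type v} [LieRing L] [LieAlgebra R L]

omit [Fact p.Prime] in
/-- Compatibility with a linear map taking brackets to commutators. -/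
theorem map_jacobson (e : L →ₗ[R] A) (he : ∀ x y, e ⁅x, y⁆ = e x * e y - e y * e x) (x y : L) :
    e (_root_.PLie.jacobson R p x y) = assocJ R p (e x) (e y) := by
  rw [_root_.PLie.jacobson, assocJ, map_sum]
  refine Finset.sum_congr rfl fun t _ => ?_
  rw [map_smul]
  congr 1
  generalize List.ofFn t = l
  induction l with
  | nil => rfl
  | cons i l ih =>
    rw [_root_.PLie.bracketWord_cons, he, ih]
    cases i <;> rfl

theorem map_add_pow (e : L →ₗ[R] A) (he : ∀ x y, e ⁅x, y⁆ = e x * e y - e y * e x) (x y : L) :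
    e (x + y) ^ p = e x ^ p + e y ^ p - e (_root_.PLie.jacobson R p x y) := by
  rw [map_add, add_pow_eq R p, map_jacobson e he]

end Assoc

end GrothLib.PLie
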