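import Groth.Agent.Lib.PLie.Basic
import Mathlib.Algebra.Lie.Solvable
import Mathlib.Algebra.Lie.Nilpotent
import Mathlib.Algebra.Lie.Engel

/-!
# `p`-mappings, radical and nilradical
-/

universe u v w

namespace GrothLib.PLie

open LieAlgebra

variable {k : Type u} [Field k] {p : ℕ} [Fact p.Prime] [CharP k p]
  {L : Type v} [LieRing L] [LieAlgebra k L] [Module.Finite k L]

/-- The elements centralizing modulo an ideal. -/
def centralModulo (N : LieIdeal k L) : LieIdeal k L where
  carrier := {z | ∀ w, ⁅z, w⁆ ∈ N}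
  add_mem' := fun {a b} ha hb w => by rw [add_lie]; exact N.add_mem (ha w) (hb w)
  zero_mem' := fun w => by rw [zero_lie]; exact N.zero_mem
  smul_mem' := fun c a ha w => by rw [smul_lie]; exact N.smul_mem c (ha w)
  lie_mem := fun {a z} hz w => by
    rw [lie_lie]
    exact N.sub_mem (N.lie_mem (hz w)) (hz _)

omit [Fact p.Prime] in
lemma pmap_lie_mem (φ : _root_.PLie.PMap k p L) (hp : p ≠ 0) (N : LieIdeal k L) {x : L} (hx : x ∈ N) (w : L) :
    ⁅φ x, w⁆ ∈ N := by
  obtain ⟨q, hq⟩ := Nat.exists_eq_succ_of_ne_zero hp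
  rw [pmap_lie, hq, pow_succ', Module.End.mul_apply, ad_apply]
  exact lie_mem_left k L N x _ hx

theorem pmap_mem_radical (φ : _root_.PLie.PMap k p L) (x : L) (hx : x ∈ radical k L) :
    φ x ∈ radical k L := by
  set C := centralModulo (radical k L)
  have hsolv : IsSolvable C := by
    rw [isSolvable_iff k]
    obtain ⟨n, hn⟩ := (isSolvable_iff k (radical k L)).1 inferInstance
    refine ⟨n + 1, ?_⟩
    rw [LieIdeal.derivedSeries_eq_bot_iff] at hn ⊢
    refine eq_bot_iff.2 ?_
    rw [derivedSeriesOfIdeal_add]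
    refine (derivedSeriesOfIdeal_le ?_ le_rfl).trans hn.le
    rw [derivedSeriesOfIdeal_succ, derivedSeriesOfIdeal_zero, LieSubmodule.lie_le_iff]
    exact fun a ha b _ => ha b
  exact ((LieIdeal.solvable_iff_le_radical k L C).1 hsolv) (pmap_lie_mem φ (Fact.out : p.Prime).ne_zero _ hx)

omit [Fact p.Prime] [Module.Finite k L] in
lemma coe_ad_ideal_pow (I : LieIdeal k L) (z w : I) (j : ℕ) :
    ((((ad k I) z) ^ j) w : L) = ((ad k L (z : L)) ^ j) (w : L) := by
  induction j with
  | zero => rfl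
  | succ j ih =>
    rw [pow_succ', pow_succ', Module.End.mul_apply, Module.End.mul_apply, ← ih]
    rfl

theorem isNilpotent_of_pnil (φ : _root_.PLie.PMap k p L) (I : LieIdeal k L)
    (hnil : ∀ x ∈ I, _root_.PLie.IsPNilpotent φ x) : LieRing.IsNilpotent I := by
  rw [LieAlgebra.isNilpotent_iff_forall (R := k)]
  intro z
  obtain ⟨n, hn⟩ := hnil z z.2
  refine ⟨p ^ n, LinearMap.ext fun w => Subtype.ext ?_⟩
  rw [coe_ad_ideal_pow, ← ad_iterate φ n (z : L), hn, map_zero]
  rfl

theorem pmap_mem_nilradical (φ : _root_.PLie.PMap k p L) (N : LieIdeal k L) (hN : LieRing.IsNilpotent N)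
    (hmax : ∀ I : LieIdeal k L, LieRing.IsNilpotent I → I ≤ N) (x : L) (hx : x ∈ N) : φ x ∈ N := by
  have hp0 : p ≠ 0 := (Fact.out : p.Prime).ne_zero
  let I : LieIdeal k L :=
    { (N.toSubmodule ⊔ Submodule.span k {φ x}) with
      lie_mem := fun {a z} hz => by
        obtain ⟨n, hn, y, hy, rfl⟩ := Submodule.mem_sup.1 hz
        obtain ⟨c, rfl⟩ := Submodule.mem_span_singleton.1 hy
        refine Submodule.mem_sup_left ?_
        rw [lie_add, lie_smul]
        refine N.add_mem (N.lie_mem hn) (N.smul_mem c ?_)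
        rw [← lie_skew]
        exact N.neg_mem (pmap_lie_mem φ hp0 N hx a) }
  have hI : LieRing.IsNilpotent I := by
    rw [LieAlgebra.isNilpotent_iff_forall (R := k)]
    intro z
    obtain ⟨n, hn, y, hy, hz⟩ := Submodule.mem_sup.1 z.2
    obtain ⟨c, rfl⟩ := Submodule.mem_span_singleton.1 hy
    obtain ⟨m, hm⟩ := (LieModule.isNilpotent_iff k N N).1 hN
    let T : Module.End k N := LieModule.toEnd k N N ⟨n, hn⟩ + c • (LieModule.toEnd k N N ⟨x, hx⟩) ^ p
    have hT : ∀ (j : ℕ) (v : N), v ∈ LieModule.lowerCentralSeries k N N j →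
        T v ∈ LieModule.lowerCentralSeries k N N (j + 1) := by
      intro j v hv
      have hstep : ∀ (a v : N), v ∈ LieModule.lowerCentralSeries k N N j →
          ⁅a, v⁆ ∈ LieModule.lowerCentralSeries k N N (j + 1) := fun a v hv => by
        rw [LieModule.lowerCentralSeries_succ]
        exact LieSubmodule.lie_mem_lie (LieSubmodule.mem_top a) hv
      refine add_mem (hstep _ v hv) (SMulMemClass.smul_mem c ?_)
      obtain ⟨q, hq⟩ := Nat.exists_eq_succ_of_ne_zero hp0
      rw [hq, pow_succ', Module.End.mul_apply]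
      refine hstep _ _ ?_
      clear hq
      induction q with
      | zero => exact hv
      | succ q ih =>
        rw [pow_succ', Module.End.mul_apply]
        exact LieModule.antitone_lowerCentralSeries k N N (Nat.le_succ j) (hstep _ _ ih)
    have hTz : ∀ v : N, ((T v : N) : L) = ⁅(z : L), (v : L)⁆ := fun v => by
      rw [← hz, add_lie, smul_lie, pmap_lie]
      have hpow : ∀ j, ((((LieModule.toEnd k N N ⟨x, hx⟩) ^ j) v : N) : L) = ((ad k L x) ^ j) (v : L) :=
        fun j => coe_ad_ideal_pow N ⟨x, hx⟩ v j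
      simp only [T, LinearMap.add_apply, LinearMap.smul_apply, LieSubmodule.coe_add, LieSubmodule.coe_smul, hpow]
      rfl
    have hiter : ∀ (j : ℕ) (v : N), (((T ^ j) v : N) : L) = ((ad k L (z : L)) ^ j) (v : L) ∧
        (T ^ j) v ∈ LieModule.lowerCentralSeries k N N j := by
      intro j v
      induction j with
      | zero => exact ⟨rfl, LieSubmodule.mem_top v⟩
      | succ j ih =>
        rw [pow_succ', pow_succ', Module.End.mul_apply, Module.End.mul_apply]
        exact ⟨by rw [hTz, ih.1]; rfl, hT j _ ih.2⟩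
    refine ⟨m + 1, LinearMap.ext fun w => Subtype.ext ?_⟩
    rw [coe_ad_ideal_pow, pow_succ, Module.End.mul_apply, ad_apply]
    have hzw : ⁅(z : L), (w : L)⁆ ∈ N := by
      obtain ⟨n', hn', y', hy', hw⟩ := Submodule.mem_sup.1 w.2
      obtain ⟨c', rfl⟩ := Submodule.mem_span_singleton.1 hy'
      rw [← hw, ← hz]
      simp only [lie_add, add_lie, smul_lie, lie_smul, lie_self, smul_zero, add_zero]
      exact N.add_mem (N.add_mem (N.lie_mem hn') (N.smul_mem _ (pmap_lie_mem φ hp0 N hx n')))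
        (N.smul_mem _ (lie_mem_left k L N n (φ x) hn))
    have h0 := hiter m ⟨_, hzw⟩
    have h02 := h0.2
    rw [hm, LieSubmodule.mem_bot] at h02
    rw [← h0.1, h02]
    rfl
  exact hmax I hI (Submodule.mem_sup_right (Submodule.mem_span_singleton_self _))

theorem nilradical_eq_iff (φ : _root_.PLie.PMap k p L) (N : LieIdeal k L) (hN : LieRing.IsNilpotent N)
    (hNmax : ∀ I : LieIdeal k L, LieRing.IsNilpotent I → I ≤ N)
    (P : LieIdeal k L) (hPnil : ∀ x ∈ P, _root_.PLie.IsPNilpotent φ x)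
    (hPmax : ∀ J : LieIdeal k L, (∀ x ∈ J, φ x ∈ J) → (∀ x ∈ J, _root_.PLie.IsPNilpotent φ x) → J ≤ P) :
    N = P ↔ center k L ≤ P := by
  constructor
  · rintro rfl
    exact hNmax _ (inferInstance : LieRing.IsNilpotent (center k L))
  · intro hc
    refine le_antisymm (hPmax N (pmap_mem_nilradical φ N hN hNmax) fun x hx => ?_)
      (hNmax P (isNilpotent_of_pnil φ P hPnil))
    obtain ⟨m, hm⟩ := (LieModule.isNilpotent_iff k N N).1 hN
    have hadn : ad k L x ^ (m + 1) = 0 := by
      refine LinearMap.ext fun w => ?_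
      rw [pow_succ, Module.End.mul_apply, ad_apply]
      have hw : ⁅x, w⁆ ∈ N := lie_mem_left k L N x w hx
      have h1 := LieModule.iterate_toEnd_mem_lowerCentralSeries k N N ⟨x, hx⟩ ⟨_, hw⟩ m
      rw [hm, LieSubmodule.mem_bot, ← Module.End.coe_pow] at h1
      have h2 := coe_ad_ideal_pow N ⟨x, hx⟩ ⟨_, hw⟩ m
      rw [show ((ad k N) ⟨x, hx⟩ ^ m) ⟨_, hw⟩ = 0 from h1] at h2
      exact h2.symm
    obtain ⟨n, hn⟩ : ∃ n, m + 1 ≤ p ^ n := ⟨m + 1, (Nat.lt_pow_self (Fact.out : p.Prime).one_lt).le⟩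
    have hcen : φ.toFun^[n] x ∈ center k L := by
      rw [LieModule.mem_maxTrivSubmodule]
      intro w
      have := LinearMap.congr_fun (ad_iterate φ n x) w
      rw [ad_apply, ← Nat.sub_add_cancel hn, pow_add, hadn, mul_zero, LinearMap.zero_apply] at this
      rw [← lie_skew, this, neg_zero]
    obtain ⟨l, hl⟩ := hPnil _ (hc hcen)
    exact ⟨l + n, by rw [Function.iterate_add_apply, hl]⟩

end GrothLib.PLie
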