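import Groth.Agent.Lib.PLie.Basic
import Mathlib.Algebra.RingQuot
import Mathlib.LinearAlgebra.FiniteDimensional.Lemmas
import Mathlib.LinearAlgebra.Quotient.Basic
import Mathlib.Data.List.FinRange

/-!
# The restricted enveloping algebra and its PBW basis
-/

universe u v w

namespace GrothLib.PLie

open LieAlgebra
open GrothLib.PBW (V Low z ev mon toU)

attribute [local instance 100] LieRing.ofAssociativeRing

variable {k : Type u} [CommRing k] {p : ℕ} [Fact p.Prime] [CharP k p] {L : Type v} [LieRing L] [LieAlgebra k L]

/-- The defining relation of the restricted enveloping algebra. -/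
inductive RRel (φ : _root_.PLie.PMap k p L) :
    UniversalEnvelopingAlgebra k L → UniversalEnvelopingAlgebra k L → Prop
  | intro (x : L) : RRel φ (UniversalEnvelopingAlgebra.ι k x ^ p) (UniversalEnvelopingAlgebra.ι k (φ x))

/-- The restricted enveloping algebra. -/
abbrev RUEA (φ : _root_.PLie.PMap k p L) : Type (max u v) := RingQuot (RRel φ)

/-- The quotient map. -/
noncomputable def rmk (φ : _root_.PLie.PMap k p L) : UniversalEnvelopingAlgebra k L →ₐ[k] RUEA φ :=
  RingQuot.mkAlgHom k (RRel φ)

/-- The canonical linear map into the restricted enveloping algebra. -/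
noncomputable def rι (φ : _root_.PLie.PMap k p L) : L →ₗ[k] RUEA φ :=
  (rmk φ).toLinearMap ∘ₗ (UniversalEnvelopingAlgebra.ι k : L →ₗ⁅k⁆ UniversalEnvelopingAlgebra k L).toLinearMap

omit [Fact p.Prime] in
lemma rι_apply (φ : _root_.PLie.PMap k p L) (x : L) : rι φ x = rmk φ (UniversalEnvelopingAlgebra.ι k x) := rfl

omit [Fact p.Prime] in
lemma rι_lie (φ : _root_.PLie.PMap k p L) (x y : L) : rι φ ⁅x, y⁆ = rι φ x * rι φ y - rι φ y * rι φ x := by
  rw [rι_apply, rι_apply, rι_apply, LieHom.map_lie, LieRing.of_associative_ring_bracket, map_sub, map_mul, map_mul]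

omit [Fact p.Prime] in
lemma rι_pmap (φ : _root_.PLie.PMap k p L) (x : L) : rι φ (φ x) = rι φ x ^ p := by
  rw [rι_apply, rι_apply, ← map_pow]
  exact (RingQuot.mkAlgHom_rel k (RRel.intro x)).symm

omit [Fact p.Prime] in
lemma rmk_surjective (φ : _root_.PLie.PMap k p L) : Function.Surjective (rmk φ) :=
  RingQuot.mkAlgHom_surjective k (RRel φ)

omit [Fact p.Prime] in
/-- Induction on generators. -/
@[elab_as_elim]
lemma rinduction {φ : _root_.PLie.PMap k p L} {motive : RUEA φ → Prop}
    (halg : ∀ r, motive (algebraMap k (RUEA φ) r)) (hι : ∀ x, motive (rι φ x))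
    (hadd : ∀ a c, motive a → motive c → motive (a + c))
    (hmul : ∀ a c, motive a → motive c → motive (a * c)) (a : RUEA φ) : motive a := by
  obtain ⟨u, rfl⟩ := rmk_surjective φ a
  obtain ⟨w, rfl⟩ := GrothLib.PBW.mkAlgHom_surj u
  induction w using TensorAlgebra.induction with
  | algebraMap r => simpa using halg r
  | ι x => exact hι x
  | mul a c ha hc => rw [map_mul, map_mul]; exact hmul _ _ ha hc
  | add a c ha hc => rw [map_add, map_add]; exact hadd _ _ ha hc

section PBW

variable {d : ℕ} (b : Module.Basis (Fin d) k L)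

/-- An element of the enveloping algebra has top symbol `m`. -/
def Top (a : UniversalEnvelopingAlgebra k L) (m : Multiset (Fin d)) : Prop :=
  ∀ s : Multiset (Fin d), ∀ q ∈ (UniversalEnvelopingAlgebra.lift k (GrothLib.PBW.rep b) a (z s) - z (m + s)).support,
    Multiset.card q < Multiset.card m + Multiset.card s

omit [Fact p.Prime] in
lemma top_one : Top b (1 : UniversalEnvelopingAlgebra k L) 0 := by
  intro s q hq; simp at hq

omit [Fact p.Prime] in
lemma act_high (a : UniversalEnvelopingAlgebra k L) (m : Multiset (Fin d)) (h : Top b a m) (n : ℕ) (v : V k (Fin d))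
    (hv : ∀ q ∈ v.support, Multiset.card q < n) :
    ∀ q ∈ (UniversalEnvelopingAlgebra.lift k (GrothLib.PBW.rep b) a v).support, Multiset.card q < Multiset.card m + n := by
  classical
  intro q hq
  rw [← Finsupp.sum_single v, Finsupp.sum, map_sum] at hq
  obtain ⟨s, hs, hqs⟩ := Finset.mem_biUnion.1 (Finsupp.support_finsetSum hq)
  rw [show Finsupp.single s (v s) = v s • z (k := k) s by simp [z], map_smul] at hqs
  have hqs' := Finsupp.support_smul hqs
  rw [← sub_add_cancel (UniversalEnvelopingAlgebra.lift k (GrothLib.PBW.rep b) a (z s)) (z (m + s))] at hqs'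
  rcases Finset.mem_union.1 (Finsupp.support_add hqs') with h1 | h1
  · have := h s q h1; have := hv s hs; omega
  · rw [Finset.mem_singleton.1 (Finsupp.support_single_subset h1), Multiset.card_add]
    have := hv s hs; omega

omit [Fact p.Prime] in
lemma top_mul {a c : UniversalEnvelopingAlgebra k L} {m m' : Multiset (Fin d)} (ha : Top b a m) (hc : Top b c m') :
    Top b (a * c) (m + m') := by
  classical
  intro s q hq
  rw [map_mul, Module.End.mul_apply,
    show UniversalEnvelopingAlgebra.lift k (GrothLib.PBW.rep b) a
      (UniversalEnvelopingAlgebra.lift k (GrothLib.PBW.rep b) c (z s)) - z (m + m' + s) =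
      UniversalEnvelopingAlgebra.lift k (GrothLib.PBW.rep b) a
        (UniversalEnvelopingAlgebra.lift k (GrothLib.PBW.rep b) c (z s) - z (m' + s)) +
      (UniversalEnvelopingAlgebra.lift k (GrothLib.PBW.rep b) a (z (m' + s)) - z (m + (m' + s))) by
      rw [map_sub, add_assoc]; abel] at hq
  rw [Multiset.card_add]
  rcases Finset.mem_union.1 (Finsupp.support_add hq) with h1 | h1
  · have := act_high b a m ha (Multiset.card m' + Multiset.card s) _ (hc s) q h1; omega
  · have := ha _ q h1; rw [Multiset.card_add] at this; omega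

omit [Fact p.Prime] in
lemma top_gen (i : Fin d) : Top b (UniversalEnvelopingAlgebra.ι k (b i)) {i} := by
  intro s q hq
  rw [UniversalEnvelopingAlgebra.lift_ι_apply] at hq
  have hq' : q ∈ (GrothLib.PBW.act b i (z s) - z (i ::ₘ s)).support := by
    have e : GrothLib.PBW.rep b (b i) = GrothLib.PBW.act b i := GrothLib.PBW.ρaux_basis b i
    rw [e] at hq
    exact hq
  have := GrothLib.PBW.act_sub_top b _ i s le_rfl q hq'
  rw [Multiset.card_singleton]
  omega

omit [Fact p.Prime] in
lemma top_pow {a : UniversalEnvelopingAlgebra k L} {m : Multiset (Fin d)} (ha : Top b a m) (n : ℕ) :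
    Top b (a ^ n) (n • m) := by
  induction n with
  | zero => rw [pow_zero, zero_smul]; exact top_one b
  | succ n ih => rw [pow_succ, succ_nsmul]; exact top_mul b ih ha

omit [Fact p.Prime] in
lemma top_prod {α : Type*} (l : List α) (f : α → UniversalEnvelopingAlgebra k L) (g : α → Multiset (Fin d))
    (h : ∀ i ∈ l, Top b (f i) (g i)) : Top b (l.map f).prod (l.map g).sum := by
  induction l with
  | nil => exact top_one b
  | cons i l ih =>
    rw [List.map_cons, List.prod_cons, List.map_cons, List.sum_cons]
    exact top_mul b (h i List.mem_cons_self) (ih fun j hj => h j (List.mem_cons_of_mem _ hj))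

variable (φ : _root_.PLie.PMap k p L)

/-- The central elements `b i ^ p - φ (b i)`. -/
noncomputable def ctr (i : Fin d) : UniversalEnvelopingAlgebra k L :=
  UniversalEnvelopingAlgebra.ι k (b i) ^ p - UniversalEnvelopingAlgebra.ι k (φ (b i))

lemma ctr_comm (i : Fin d) (a : UniversalEnvelopingAlgebra k L) : Commute (ctr b φ i) a := by
  obtain ⟨w, rfl⟩ := GrothLib.PBW.mkAlgHom_surj a
  induction w using TensorAlgebra.induction with
  | algebraMap r => simp only [AlgHom.commutes]; exact (Algebra.commutes r _).symm
  | mul a c ha hc => rw [map_mul]; exact ha.mul_right hc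
  | add a c ha hc => rw [map_add]; exact ha.add_right hc
  | ι y =>
    let U := UniversalEnvelopingAlgebra k L
    let e : L → U := fun x => UniversalEnvelopingAlgebra.ι k x
    show Commute (ctr b φ i) (e y)
    have hcomm : ∀ x z, e ⁅x, z⁆ = e x * e z - e z * e x := fun x z =>
      (UniversalEnvelopingAlgebra.ι k).map_lie x z
    let Lm : Module.End ℤ U := LinearMap.mulLeft ℤ (e (b i))
    let Rm : Module.End ℤ U := LinearMap.mulRight ℤ (e (b i))
    have hpU : (p : U) = 0 := natCast_p_eq_zero (R := k)
    have hpE : (p : Module.End ℤ U) = 0 := LinearMap.ext fun q => by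
      rw [LinearMap.zero_apply, Module.End.natCast_apply, nsmul_eq_mul, hpU, zero_mul]
    have hLR : Commute Lm Rm := LinearMap.commute_mulLeft_right (R := ℤ) _ _
    have h2 : (Lm - Rm) ^ p = Lm ^ p - Rm ^ p := by
      have h := sub_pow_pred hpE hLR
      calc (Lm - Rm) ^ p = (Lm - Rm) * (Lm - Rm) ^ (p - 1) := by
            rw [← pow_succ', Nat.sub_add_cancel (Fact.out : p.Prime).pos]
        _ = Lm ^ p - Rm ^ p := by rw [h, hLR.mul_geom_sum₂]
    have h3 : ∀ n, ((Lm - Rm) ^ n) (e y) = e ((ad k L (b i) ^ n) y) := fun n => by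
      induction n with
      | zero => rfl
      | succ n ih => rw [pow_succ', Module.End.mul_apply, ih, pow_succ', Module.End.mul_apply, ad_apply, hcomm]; rfl
    have h4 := h3 p
    rw [h2, LinearMap.sub_apply, LinearMap.pow_mulLeft, LinearMap.pow_mulRight, LinearMap.mulLeft_apply,
      LinearMap.mulRight_apply, ← pmap_lie, hcomm] at h4
    show (e (b i) ^ p - e (φ (b i))) * e y = e y * (e (b i) ^ p - e (φ (b i)))
    rw [sub_mul, mul_sub]
    linear_combination (norm := abel) h4

lemma top_ctr (i : Fin d) : Top b (ctr b φ i) (p • {i}) := by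
  classical
  intro s q hq
  rw [ctr, map_sub, LinearMap.sub_apply, sub_right_comm] at hq
  rcases Finset.mem_union.1 (Finsupp.support_sub hq) with h1 | h1
  · exact top_pow b (top_gen b i) p s q h1
  · -- linear elements raise the degree by at most one
    have key : ∀ x : L, ∀ q ∈ (UniversalEnvelopingAlgebra.lift k (GrothLib.PBW.rep b)
        (UniversalEnvelopingAlgebra.ι k x) (z s)).support, Multiset.card q ≤ 1 + Multiset.card s := by
      intro x q hq
      rw [← b.sum_repr x] at hq
      simp only [map_sum, map_smul, LinearMap.sum_apply, LinearMap.smul_apply] at hq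
      obtain ⟨j, -, hqj⟩ := Finset.mem_biUnion.1 (Finsupp.support_finsetSum hq)
      have hqj' := Finsupp.support_smul hqj
      rw [← sub_add_cancel (UniversalEnvelopingAlgebra.lift k (GrothLib.PBW.rep b)
        (UniversalEnvelopingAlgebra.ι k (b j)) (z s)) (z ({j} + s))] at hqj'
      rcases Finset.mem_union.1 (Finsupp.support_add hqj') with h2 | h2
      · have := top_gen b j s q h2; simp at this; omega
      · rw [Finset.mem_singleton.1 (Finsupp.support_single_subset h2)]; simp
    have := key _ q h1
    rw [Multiset.card_nsmul, Multiset.card_singleton, Nat.mul_one]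
    have := (Fact.out : p.Prime).two_le
    omega

/-- The modified monomials. -/
noncomputable def mon' (s : Multiset (Fin d)) : UniversalEnvelopingAlgebra k L :=
  ((List.finRange d).map fun i => UniversalEnvelopingAlgebra.ι k (b i) ^ (s.count i % p)).prod *
    ((List.finRange d).map fun i => ctr b φ i ^ (s.count i / p)).prod

lemma top_mon' (s : Multiset (Fin d)) : Top b (mon' b φ s) s := by
  classical
  have h := top_mul b
    (top_prod b (List.finRange d) (fun i => UniversalEnvelopingAlgebra.ι k (b i) ^ (s.count i % p))
      (fun i => (s.count i % p) • ({i} : Multiset (Fin d))) fun i _ => top_pow b (top_gen b i) _)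
    (top_prod b (List.finRange d) (fun i => ctr b φ i ^ (s.count i / p))
      (fun i => (s.count i / p) • p • ({i} : Multiset (Fin d))) fun i _ => top_pow b (top_ctr b φ i) _)
  have hs : ((List.finRange d).map fun i => (s.count i % p) • ({i} : Multiset (Fin d))).sum +
      ((List.finRange d).map fun i => (s.count i / p) • p • ({i} : Multiset (Fin d))).sum = s := by
    rw [← List.sum_map_add, ← List.ofFn_eq_map, List.sum_ofFn]
    ext j
    rw [Multiset.count_sum']
    rw [Finset.sum_eq_single j]
    · simp [Multiset.count_nsmul]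
      exact Nat.mod_add_div' _ _
    · intro i _ hij; simp [Multiset.count_nsmul, Multiset.count_singleton, hij.symm]
    · simp
  rw [hs] at h
  exact h

/-- The linear map sending multisets to modified monomials. -/
noncomputable def toU' : V k (Fin d) →ₗ[k] UniversalEnvelopingAlgebra k L :=
  Finsupp.linearCombination k (mon' b φ)

lemma ev_toU'_sub (v : V k (Fin d)) (n : ℕ) (hv : ∀ q ∈ v.support, Multiset.card q ≤ n) :
    ∀ q ∈ (ev b (toU' b φ v) - v).support, Multiset.card q < n := by
  classical
  intro q hq
  rw [show ev b (toU' b φ v) - v = ∑ s ∈ v.support, v s • (ev b (mon' b φ s) - z s) by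
    simp only [smul_sub, Finset.sum_sub_distrib]
    congr 1
    · simp [toU', Finsupp.linearCombination_apply, Finsupp.sum, map_sum]
    · conv_lhs => rw [← Finsupp.sum_single v]
      simp [Finsupp.sum, z]] at hq
  obtain ⟨s, hs, hqs⟩ := Finset.mem_biUnion.1 (Finsupp.support_finsetSum hq)
  have h := top_mon' b φ s 0 q (by rw [add_zero]; exact Finsupp.support_smul hqs)
  have := hv s hs
  simp at h
  omega

lemma toU'_injective : Function.Injective (toU' b φ) := by
  classical
  rw [injective_iff_map_eq_zero]
  intro v hv
  by_contra h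
  obtain ⟨s, hs, hmax⟩ := Finset.exists_max_image v.support (fun q => Multiset.card q)
    (Finsupp.support_nonempty_iff.2 h)
  have := ev_toU'_sub b φ v (Multiset.card s) hmax s (by rw [hv, map_zero, zero_sub, Finsupp.support_neg]; exact hs)
  omega

lemma toU'_surjective : Function.Surjective (toU' b φ) := by
  classical
  suffices key : ∀ (n : ℕ) (v : V k (Fin d)), (∀ q ∈ v.support, Multiset.card q < n) →
      (GrothLib.PBW.equiv b) v ∈ LinearMap.range (toU' b φ) by
    intro a
    have := key (((GrothLib.PBW.equiv b).symm a).support.sup Multiset.card + 1) ((GrothLib.PBW.equiv b).symm a)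
      (fun q hq => Nat.lt_succ_of_le (Finset.le_sup hq))
    rwa [LinearEquiv.apply_symm_apply] at this
  intro n
  induction n with
  | zero =>
    intro v hv
    have : v = 0 := Finsupp.support_eq_empty.1 (Finset.eq_empty_of_forall_notMem fun q hq => by
      have := hv q hq; omega)
    rw [this, map_zero]; exact zero_mem _
  | succ n ih =>
    intro v hv
    have hlow := ev_toU'_sub b φ v n fun q hq => Nat.le_of_lt_succ (hv q hq)
    have h1 := ih _ hlow
    have e : (GrothLib.PBW.equiv b) (ev b (toU' b φ v) - v) = toU' b φ v - (GrothLib.PBW.equiv b) v := by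
      rw [map_sub]
      congr 1
      exact (GrothLib.PBW.equiv b).apply_symm_apply _
    rw [e] at h1
    have := sub_mem (LinearMap.mem_range_self (toU' b φ) v) h1
    rwa [sub_sub_cancel] at this

/-- The basis of modified monomials. -/
noncomputable def basis' : Module.Basis (Multiset (Fin d)) k (UniversalEnvelopingAlgebra k L) :=
  Finsupp.basisSingleOne.map (LinearEquiv.ofBijective (toU' b φ) ⟨toU'_injective b φ, toU'_surjective b φ⟩)

lemma basis'_apply (s : Multiset (Fin d)) : basis' b φ s = mon' b φ s := by
  simp [basis', toU']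

lemma mon'_mul_ctr (s : Multiset (Fin d)) (j : Fin d) :
    mon' b φ s * ctr b φ j = mon' b φ (s + p • {j}) := by
  classical
  have hp := (Fact.out : p.Prime).pos
  have hc : ∀ i, (s + p • ({j} : Multiset (Fin d))).count i = s.count i + if i = j then p else 0 := fun i => by
    simp [Multiset.count_nsmul, Multiset.count_singleton]
  unfold mon'
  rw [mul_assoc]
  congr 1
  · congr 1
    refine List.map_congr_left fun i _ => ?_
    rw [hc]; split_ifs <;> simp
  · have key : ∀ l : List (Fin d), l.Nodup →
        (l.map fun i => ctr b φ i ^ ((s + p • ({j} : Multiset (Fin d))).count i / p)).prod =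
          (l.map fun i => ctr b φ i ^ (s.count i / p)).prod * (if j ∈ l then ctr b φ j else 1) := by
      intro l
      induction l with
      | nil => intro _; simp
      | cons i l ih =>
        intro hnd
        rw [List.nodup_cons] at hnd
        rw [List.map_cons, List.prod_cons, List.map_cons, List.prod_cons, ih hnd.2, hc]
        rcases eq_or_ne i j with rfl | hij
        · rw [if_pos rfl, if_neg hnd.1, mul_one, if_pos List.mem_cons_self, Nat.add_div_right _ hp, pow_succ,
            mul_assoc, (ctr_comm b φ i _).eq, ← mul_assoc]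
        · rw [if_neg hij, add_zero, mul_assoc]
          congr 2
          simp [List.mem_cons, hij.symm]
    rw [key _ (List.nodup_finRange d), if_pos (List.mem_finRange j)]

/-- The monomials with a large exponent span an ideal. -/
noncomputable def relSub : Submodule k (UniversalEnvelopingAlgebra k L) :=
  Submodule.span k (mon' b φ '' {s | ∃ i, p ≤ s.count i})

lemma mul_ctr_mem (a : UniversalEnvelopingAlgebra k L) (j : Fin d) : a * ctr b φ j ∈ relSub b φ := by
  classical
  rw [← (basis' b φ).linearCombination_repr a, Finsupp.linearCombination_apply, Finsupp.sum, Finset.sum_mul]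
  refine sum_mem fun s _ => ?_
  rw [smul_mul_assoc, basis'_apply, mon'_mul_ctr]
  refine Submodule.smul_mem _ _ (Submodule.subset_span ⟨_, ⟨j, ?_⟩, rfl⟩)
  simp [Multiset.count_nsmul]

lemma mul_mem_relSub (a : UniversalEnvelopingAlgebra k L) {c : UniversalEnvelopingAlgebra k L}
    (hc : c ∈ relSub b φ) : a * c ∈ relSub b φ := by
  classical
  induction hc using Submodule.span_induction with
  | mem x hx =>
    obtain ⟨s, ⟨i, hi⟩, rfl⟩ := hx
    obtain ⟨s', rfl⟩ : ∃ s', s = s' + p • ({i} : Multiset (Fin d)) := by
      refine ⟨s - p • {i}, (Multiset.sub_add_cancel ?_).symm⟩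
      rw [Multiset.le_iff_count]
      intro j
      rw [Multiset.count_nsmul, Multiset.count_singleton]
      split_ifs with h
      · subst h; simpa using hi
      · simp
    rw [← mon'_mul_ctr, ← mul_assoc]
    exact mul_ctr_mem b φ _ i
  | zero => simp
  | add x y _ _ hx hy => rw [mul_add]; exact add_mem hx hy
  | smul r x _ hx => rw [mul_smul_comm]; exact Submodule.smul_mem _ _ hx

lemma rel_mem (x : L) : UniversalEnvelopingAlgebra.ι k x ^ p - UniversalEnvelopingAlgebra.ι k (φ x) ∈
    Submodule.span k (Set.range (ctr b φ)) := by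
  classical
  let e : L →ₗ[k] UniversalEnvelopingAlgebra k L :=
    (UniversalEnvelopingAlgebra.ι k : L →ₗ⁅k⁆ UniversalEnvelopingAlgebra k L).toLinearMap
  have hcomm : ∀ x z, e ⁅x, z⁆ = e x * e z - e z * e x := fun x z =>
    (UniversalEnvelopingAlgebra.ι k).map_lie x z
  show e x ^ p - e (φ x) ∈ _
  rw [← b.sum_repr x]
  generalize (Finset.univ : Finset (Fin d)) = s
  induction s using Finset.induction with
  | empty =>
    rw [Finset.sum_empty, pmap_zero, map_zero, zero_pow (Fact.out : p.Prime).ne_zero, sub_zero]
    exact zero_mem _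
  | insert i s hi ih =>
    rw [Finset.sum_insert hi, map_add_pow e hcomm, φ.map_add, φ.map_smul, map_sub, map_add,
      map_smul e (b.repr x i) (b i), smul_pow, map_smul e _ (φ (b i))]
    have h1 : b.repr x i ^ p • ctr b φ i ∈ Submodule.span k (Set.range (ctr b φ)) :=
      Submodule.smul_mem _ _ (Submodule.subset_span ⟨i, rfl⟩)
    rw [ctr, smul_sub] at h1
    have := add_mem h1 ih
    convert this using 1
    simp only [e, LieHom.coe_toLinearMap]
    abel

/-- The action on the quotient by `relSub`. -/
noncomputable def quotRep : UniversalEnvelopingAlgebra k L →ₐ[k] Module.End k (UniversalEnvelopingAlgebra k L ⧸ relSub b φ) where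
  toFun a := (relSub b φ).mapQ (relSub b φ) (LinearMap.mulLeft k a) fun c hc => mul_mem_relSub b φ a hc
  map_one' := LinearMap.ext fun q => by
    obtain ⟨c, rfl⟩ := Submodule.Quotient.mk_surjective _ q; simp
  map_mul' a c := LinearMap.ext fun q => by
    obtain ⟨e, rfl⟩ := Submodule.Quotient.mk_surjective _ q; simp [mul_assoc]
  map_zero' := LinearMap.ext fun q => by
    obtain ⟨c, rfl⟩ := Submodule.Quotient.mk_surjective _ q; simp
  map_add' a c := LinearMap.ext fun q => by
    obtain ⟨e, rfl⟩ := Submodule.Quotient.mk_surjective _ q; simp [add_mul]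
  commutes' r := LinearMap.ext fun q => by
    obtain ⟨e, rfl⟩ := Submodule.Quotient.mk_surjective _ q
    simp [Algebra.algebraMap_eq_smul_one]

lemma quotRep_rel {a c : UniversalEnvelopingAlgebra k L} (h : RRel φ a c) : quotRep b φ a = quotRep b φ c := by
  obtain ⟨x⟩ := h
  refine LinearMap.ext fun q => ?_
  obtain ⟨e, rfl⟩ := Submodule.Quotient.mk_surjective _ q
  show Submodule.Quotient.mk (_ * e) = Submodule.Quotient.mk (_ * e)
  rw [Submodule.Quotient.eq, ← sub_mul]
  have h1 := rel_mem b φ x
  generalize UniversalEnvelopingAlgebra.ι k x ^ p - UniversalEnvelopingAlgebra.ι k (φ x) = y at h1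
  induction h1 using Submodule.span_induction with
  | mem y hy =>
    obtain ⟨i, rfl⟩ := hy
    rw [(ctr_comm b φ i e).eq]
    exact mul_ctr_mem b φ e i
  | zero => simp
  | add y w _ _ hy hw => rw [add_mul]; exact add_mem hy hw
  | smul r y _ hy => rw [smul_mul_assoc]; exact Submodule.smul_mem _ _ hy

/-- The exponent vector as a multiset. -/
def expSet (a : Fin d → Fin p) : Multiset (Fin d) := ∑ i, (a i : ℕ) • {i}

omit [CharP k p] in
lemma count_expSet (a : Fin d → Fin p) (j : Fin d) : (expSet a).count j = a j := by
  classical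
  rw [expSet, Multiset.count_sum', Finset.sum_eq_single j]
  · simp [Multiset.count_nsmul]
  · intro i _ hij; simp [Multiset.count_nsmul, Multiset.count_singleton, hij.symm]
  · simp

/-- The restricted monomials. -/
noncomputable def rmon (a : Fin d → Fin p) : RUEA φ :=
  ((List.finRange d).map fun i => rι φ (b i) ^ (a i : ℕ)).prod

lemma rmk_mon' (a : Fin d → Fin p) : rmk φ (mon' b φ (expSet a)) = rmon b φ a := by
  rw [mon', map_mul, map_list_prod, map_list_prod, rmon]
  simp only [List.map_map, Function.comp_def, map_pow, count_expSet, Nat.mod_eq_of_lt (Fin.is_lt _),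
    Nat.div_eq_of_lt (Fin.is_lt _), pow_zero]
  simp [rι_apply, List.map_const', List.prod_replicate]

lemma rmk_relSub {c : UniversalEnvelopingAlgebra k L} (hc : c ∈ relSub b φ) : rmk φ c = 0 := by
  classical
  induction hc using Submodule.span_induction with
  | mem x hx =>
    obtain ⟨s, ⟨i, hi⟩, rfl⟩ := hx
    obtain ⟨s', rfl⟩ : ∃ s', s = s' + p • ({i} : Multiset (Fin d)) := by
      refine ⟨s - p • {i}, (Multiset.sub_add_cancel ?_).symm⟩
      rw [Multiset.le_iff_count]
      intro j
      rw [Multiset.count_nsmul, Multiset.count_singleton]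
      split_ifs with h
      · subst h; simpa using hi
      · simp
    rw [← mon'_mul_ctr, map_mul, ctr, map_sub, map_pow, ← rι_apply, ← rι_apply, rι_pmap, sub_self, mul_zero]
  | zero => simp
  | add x y _ _ hx hy => rw [map_add, hx, hy, add_zero]
  | smul r x _ hx => rw [map_smul, hx, smul_zero]

lemma rmon_linearIndependent : LinearIndependent k (rmon b φ) := by
  classical
  rw [Fintype.linearIndependent_iff]
  intro c hc a
  let P : RUEA φ →ₐ[k] Module.End k (UniversalEnvelopingAlgebra k L ⧸ relSub b φ) :=
    RingQuot.liftAlgHom k ⟨quotRep b φ, fun _ _ h => quotRep_rel b φ h⟩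
  have hP : ∀ u, P (rmk φ u) = quotRep b φ u := fun u =>
    RingQuot.liftAlgHom_mkAlgHom_apply k (quotRep b φ) (fun _ _ h => quotRep_rel b φ h) u
  have h1 := congrArg (fun y => P y (Submodule.Quotient.mk 1)) hc
  simp only [← rmk_mon', ← map_smul (rmk φ), ← map_sum (rmk φ), hP, map_zero, LinearMap.zero_apply] at h1
  have h2 : (∑ a, c a • mon' b φ (expSet a)) ∈ relSub b φ := by
    have : (Submodule.Quotient.mk ((∑ a, c a • mon' b φ (expSet a)) * 1) :
        UniversalEnvelopingAlgebra k L ⧸ relSub b φ) = 0 := h1
    rwa [mul_one, Submodule.Quotient.mk_eq_zero] at this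
  have h3 : ∀ y ∈ relSub b φ, (basis' b φ).repr y (expSet a) = 0 := by
    intro y hy
    induction hy using Submodule.span_induction with
    | mem x hx =>
      obtain ⟨s, ⟨i, hi⟩, rfl⟩ := hx
      rw [← basis'_apply, Module.Basis.repr_self, Finsupp.single_eq_of_ne]
      intro h
      rw [← h, count_expSet] at hi
      exact absurd hi (not_le.2 (a i).is_lt)
    | zero => simp
    | add x y _ _ hx hy => simp [hx, hy]
    | smul r x _ hx => simp [hx]
  have h4 := h3 _ h2
  simp only [← basis'_apply, map_sum, map_smul, Module.Basis.repr_self, Finsupp.coe_finset_sum, Finset.sum_apply,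
    Finsupp.smul_single, smul_eq_mul, mul_one] at h4
  rw [Finset.sum_eq_single a] at h4
  · simpa using h4
  · intro e _ he
    refine Finsupp.single_eq_of_ne fun h => he (funext fun i => Fin.ext ?_)
    have := congrArg (Multiset.count i) h
    simpa [count_expSet] using this.symm
  · simp

lemma rmon_span : ⊤ ≤ Submodule.span k (Set.range (rmon b φ)) := by
  classical
  intro y _
  obtain ⟨u, rfl⟩ := rmk_surjective φ y
  rw [← (basis' b φ).linearCombination_repr u, Finsupp.linearCombination_apply, Finsupp.sum, map_sum]
  refine sum_mem fun s _ => ?_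
  rw [map_smul, basis'_apply]
  refine Submodule.smul_mem _ _ ?_
  by_cases h : ∃ i, p ≤ s.count i
  · rw [rmk_relSub b φ (Submodule.subset_span ⟨s, h, rfl⟩)]; exact zero_mem _
  · push Not at h
    let a : Fin d → Fin p := fun i => ⟨s.count i, h i⟩
    have : expSet a = s := Multiset.ext.2 fun i => count_expSet a i
    rw [← this, rmk_mon']
    exact Submodule.subset_span ⟨a, rfl⟩

/-- PBW basis of the restricted enveloping algebra. -/
noncomputable def rbasis : Module.Basis (Fin d → Fin p) k (RUEA φ) :=
  Module.Basis.mk (rmon_linearIndependent b φ) (rmon_span b φ)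

lemma rbasis_apply (a : Fin d → Fin p) : rbasis b φ a = rmon b φ a := by simp [rbasis]

/-- The unit exponent vector. -/
def expOne (i : Fin d) : Fin d → Fin p := fun j =>
  if j = i then ⟨1, (Fact.out : p.Prime).one_lt⟩ else ⟨0, (Fact.out : p.Prime).pos⟩

lemma rmon_expOne (i : Fin d) : rmon b φ (expOne i) = rι φ (b i) := by
  rw [rmon]
  have key : ∀ l : List (Fin d), l.Nodup →
      (l.map fun j => rι φ (b j) ^ (expOne (p := p) i j : ℕ)).prod = if i ∈ l then rι φ (b i) else 1 := by
    intro l
    induction l with
    | nil => intro _; simp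
    | cons j l ih =>
      intro hnd
      rw [List.nodup_cons] at hnd
      rw [List.map_cons, List.prod_cons, ih hnd.2]
      rcases eq_or_ne j i with rfl | hij
      · simp [expOne, hnd.1]
      · simp [expOne, hij, hij.symm]
  rw [key _ (List.nodup_finRange d), if_pos (List.mem_finRange i)]

include b in
lemma rι_injective : Function.Injective (rι φ) := by
  classical
  rw [injective_iff_map_eq_zero]
  intro x hx
  refine b.ext_elem fun i => ?_
  rw [← b.sum_repr x, map_sum] at hx
  simp only [map_smul, ← rmon_expOne b φ] at hx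
  have hinj : Function.Injective (expOne (p := p) (d := d)) := fun j l h => by
    have := congrFun h j
    simp only [expOne, if_true] at this
    split_ifs at this with h'
    · exact h'
    · simp at this
  have := Fintype.linearIndependent_iff.1 ((rmon_linearIndependent b φ).comp _ hinj) _ hx i
  simp [this]

end PBW

end GrothLib.PLie
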