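import Groth.Agent.Lib.PLie.RestrictedHopf
import Groth.Agent.Lib.Dual.Eval
import Mathlib.RingTheory.Derivation.Basic
import Mathlib.RingTheory.Derivation.Lie

/-!
# The height-one Hopf algebra of a restricted Lie algebra
-/

universe u v

namespace GrothLib.PLie

open LieAlgebra TensorProduct WithConv

attribute [local instance 100] LieRing.ofAssociativeRing

variable {k : Type u} [Field k] {p : ℕ} [Fact p.Prime] [CharP k p] {L : Type v} [LieRing L] [LieAlgebra k L]
  [Module.Finite k L] (φ : _root_.PLie.PMap k p L)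

noncomputable instance instFinite : Module.Finite k (RUEA φ) :=
  Module.Finite.of_basis (rbasis (Module.finBasis k L) φ)

/-- The height-one Hopf algebra attached to a restricted Lie algebra. -/
abbrev HO : Type (max u v) := CartDual.D k (RUEA φ)

omit [Module.Finite k L] in
lemma ho_mul_apply (f g : HO φ) (v : RUEA φ) :
    (f * g) v = LinearMap.mul' k k (TensorProduct.map f.ofConv g.ofConv (rcomul φ v)) := by
  rw [LinearMap.convMul_apply]; rfl

/-- Right translation by an element of the Lie algebra, as a linear map of the dual. -/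
noncomputable def dLin : L →ₗ[k] HO φ →ₗ[k] HO φ :=
  LinearMap.mk₂ k (fun x f => toConv (f.ofConv ∘ₗ LinearMap.mulRight k (rι φ x)))
    (fun x y f => by apply WithConv.ext; ext v; simp [mul_add])
    (fun c x f => by apply WithConv.ext; ext v; simp)
    (fun x f g => by apply WithConv.ext; ext v; simp)
    (fun c x f => by apply WithConv.ext; ext v; simp)

omit [Module.Finite k L] in
lemma dLin_apply (x : L) (f : HO φ) (v : RUEA φ) : dLin φ x f v = f (v * rι φ x) := rfl

omit [Module.Finite k L] in
lemma dLin_mul (x : L) (f g : HO φ) : dLin φ x (f * g) = f * dLin φ x g + g * dLin φ x f := by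
  apply WithConv.ext
  refine LinearMap.ext fun v => ?_
  show dLin φ x (f * g) v = (f * dLin φ x g) v + (g * dLin φ x f) v
  rw [dLin_apply, mul_comm g (dLin φ x f), ho_mul_apply, ho_mul_apply, ho_mul_apply, map_mul (rcomul φ), rcomul_rι]
  induction rcomul φ v using TensorProduct.induction_on with
  | zero => simp
  | tmul a c =>
    simp [mul_add, add_comm]
    rfl
  | add a c ha hc =>
    rw [add_mul, map_add, map_add, ha, hc]
    simp only [map_add]
    abel

/-- Right translation by an element of the Lie algebra, as a derivation. -/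
noncomputable def dDer : L →ₗ[k] Derivation k (HO φ) (HO φ) where
  toFun x := Derivation.mk' (dLin φ x) fun f g => dLin_mul φ x f g
  map_add' x y := Derivation.ext fun f => by
    show dLin φ (x + y) f = dLin φ x f + dLin φ y f
    rw [map_add, LinearMap.add_apply]
  map_smul' c x := Derivation.ext fun f => by
    show dLin φ (c • x) f = c • dLin φ x f
    rw [map_smul, LinearMap.smul_apply]

omit [Module.Finite k L] in
lemma dDer_apply (x : L) (f : HO φ) (v : RUEA φ) : dDer φ x f v = f (v * rι φ x) := rfl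

lemma dDer_invariant (x : L) :
    CoalgebraStruct.comul (R := k) (A := HO φ) ∘ₗ (dDer φ x).toLinearMap =
      LinearMap.lTensor (HO φ) (dDer φ x).toLinearMap ∘ₗ CoalgebraStruct.comul (R := k) (A := HO φ) := by
  refine LinearMap.ext fun f => (CartDual.ev₂ k (RUEA φ)).injective (TensorProduct.ext' fun a c => ?_)
  simp only [LinearMap.comp_apply]
  rw [CartDual.ev₂_coalgebra_comul_tmul]
  have key : ∀ z : HO φ ⊗[k] HO φ,
      CartDual.ev₂ k (RUEA φ) (LinearMap.lTensor (HO φ) (dDer φ x).toLinearMap z) (a ⊗ₜ c) =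
        CartDual.ev₂ k (RUEA φ) z (a ⊗ₜ (c * rι φ x)) := by
    intro z
    induction z using TensorProduct.induction_on with
    | zero => simp
    | tmul g h => rw [LinearMap.lTensor_tmul, CartDual.ev₂_tmul, CartDual.ev₂_tmul]; rfl
    | add g h hg hh => simp only [map_add, LinearMap.add_apply, hg, hh]
  rw [key, CartDual.ev₂_coalgebra_comul_tmul, ← mul_assoc]
  rfl

omit [Module.Finite k L] in
lemma dDer_lie (x y : L) : dDer φ ⁅x, y⁆ = ⁅dDer φ x, dDer φ y⁆ := by
  refine Derivation.ext fun f => ?_
  rw [Derivation.commutator_apply]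
  apply WithConv.ext
  refine LinearMap.ext fun v => ?_
  show dDer φ ⁅x, y⁆ f v = (dDer φ x (dDer φ y f)) v - (dDer φ y (dDer φ x f)) v
  rw [dDer_apply, dDer_apply, dDer_apply, dDer_apply, dDer_apply, rι_lie, mul_sub, mul_assoc, mul_assoc]
  exact map_sub f.ofConv _ _

omit [Module.Finite k L] in
lemma dDer_pow (x : L) (n : ℕ) (f : HO φ) (v : RUEA φ) :
    ((dDer φ x).toLinearMap ^ n) f v = f (v * rι φ x ^ n) := by
  induction n generalizing f with
  | zero => simp
  | succ n ih =>
    rw [pow_succ (dDer φ x).toLinearMap, Module.End.mul_apply, ih, pow_succ, ← mul_assoc]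
    rfl

omit [Module.Finite k L] in
lemma dDer_pmap (x : L) : (dDer φ (φ x)).toLinearMap = (dDer φ x).toLinearMap ^ p := by
  refine LinearMap.ext fun f => WithConv.ext (LinearMap.ext fun v => ?_)
  show dDer φ (φ x) f v = ((dDer φ x).toLinearMap ^ p) f v
  rw [dDer_pow, dDer_apply, rι_pmap]

omit [Module.Finite k L] in
/-- The restricted enveloping algebra is spanned by `1` and the right multiples of the Lie algebra. -/
lemma exists_scalar_sub_mem (v : RUEA φ) :
    ∃ c : k, v - algebraMap k (RUEA φ) c ∈ Submodule.span k {w | ∃ (a : RUEA φ) (x : L), w = a * rι φ x} := by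
  set I := Submodule.span k {w : RUEA φ | ∃ (a : RUEA φ) (x : L), w = a * rι φ x}
  have hI : ∀ (a : RUEA φ), ∀ w ∈ I, a * w ∈ I := by
    intro a w hw
    induction hw using Submodule.span_induction with
    | mem z hz => obtain ⟨c, x, rfl⟩ := hz; exact Submodule.subset_span ⟨a * c, x, (mul_assoc _ _ _).symm⟩
    | zero => simp
    | add z z' _ _ h h' => rw [mul_add]; exact add_mem h h'
    | smul r z _ h => rw [mul_smul_comm]; exact Submodule.smul_mem _ _ h
  induction v using rinduction with
  | halg r => exact ⟨r, by simp⟩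
  | hι x => exact ⟨0, by rw [map_zero, sub_zero]; exact Submodule.subset_span ⟨1, x, (one_mul _).symm⟩⟩
  | hadd a c ha hc =>
    obtain ⟨r, hr⟩ := ha; obtain ⟨s, hs⟩ := hc
    refine ⟨r + s, ?_⟩
    have := add_mem hr hs
    rw [map_add]; convert this using 1; abel
  | hmul a c ha hc =>
    obtain ⟨r, hr⟩ := ha; obtain ⟨s, hs⟩ := hc
    refine ⟨r * s, ?_⟩
    have := add_mem (hI a _ hs) (Submodule.smul_mem I s hr)
    convert this using 1
    rw [map_mul, mul_sub, smul_sub, Algebra.smul_def, Algebra.smul_def, ← Algebra.commutes s a,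
      (Algebra.commutes r (algebraMap k (RUEA φ) s)), mul_comm_of_algebraMap]
    abel
where
  mul_comm_of_algebraMap {r s : k} : algebraMap k (RUEA φ) s * algebraMap k (RUEA φ) r =
      algebraMap k (RUEA φ) r * algebraMap k (RUEA φ) s := (Algebra.commutes r _).symm

omit [Module.Finite k L] in
lemma conv_pow_apply_one (f : HO φ) (n : ℕ) : (f ^ n) (1 : RUEA φ) = f (1 : RUEA φ) ^ n := by
  induction n with
  | zero =>
    rw [pow_zero, pow_zero, LinearMap.convOne_apply, counit_eq, map_one, map_one]
  | succ n ih =>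
    rw [pow_succ f, GrothLib.Dual.conv_apply_of_groupLike (R := k)
      (by rw [comul_eq, map_one, Algebra.TensorProduct.one_def]), ih, pow_succ]

lemma pow_p_eq_zero (f : HO φ) (hf : Bialgebra.counitAlgHom k (HO φ) f = 0) : f ^ p = 0 := by
  have hp := (Fact.out : p.Prime)
  apply WithConv.ext
  refine LinearMap.ext fun v => ?_
  obtain ⟨c, hc⟩ := exists_scalar_sub_mem φ v
  have h1 : ∀ w ∈ Submodule.span k {w : RUEA φ | ∃ (a : RUEA φ) (x : L), w = a * rι φ x},
      (f ^ p).ofConv w = 0 := by
    intro w hw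
    induction hw using Submodule.span_induction with
    | mem z hz =>
      obtain ⟨a, x, rfl⟩ := hz
      show dDer φ x (f ^ p) a = 0
      rw [(dDer φ x).leibniz_pow f p, nsmul_eq_mul, show ((p : ℕ) : HO φ) = 0 from natCast_p_eq_zero (R := k), zero_mul]
      rfl
    | zero => simp
    | add z z' _ _ h h' => rw [map_add, h, h', add_zero]
    | smul r z _ h => rw [map_smul, h, smul_zero]
  have h2 : (f ^ p) (1 : RUEA φ) = 0 := by
    rw [conv_pow_apply_one, show f (1 : RUEA φ) = 0 from hf, zero_pow hp.ne_zero]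
  have h3 := h1 _ hc
  rw [map_sub, Algebra.algebraMap_eq_smul_one, map_smul, show (f ^ p).ofConv 1 = 0 from h2, smul_zero, sub_zero] at h3
  rw [h3]; rfl

lemma exists_dDer_eq (D : Derivation k (HO φ) (HO φ))
    (hD : CoalgebraStruct.comul (R := k) (A := HO φ) ∘ₗ D.toLinearMap =
      LinearMap.lTensor (HO φ) D.toLinearMap ∘ₗ CoalgebraStruct.comul (R := k) (A := HO φ)) :
    ∃ x : L, dDer φ x = D := by
  let F : HO φ →ₗ[k] k :=
    LinearMap.applyₗ (1 : RUEA φ) ∘ₗ (CartDual.toDual k (RUEA φ)).toLinearMap ∘ₗ D.toLinearMap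
  obtain ⟨P, hP, -⟩ := GrothLib.Dual.existsUnique_eval F
  have hP' : ∀ f : HO φ, D f (1 : RUEA φ) = f P := hP
  have hone : Coalgebra.comul (R := k) (1 : RUEA φ) = (1 : RUEA φ) ⊗ₜ[k] (1 : RUEA φ) := by
    rw [comul_eq, map_one, Algebra.TensorProduct.one_def]
  have hprim : Coalgebra.comul (R := k) P = P ⊗ₜ[k] 1 + 1 ⊗ₜ[k] P := by
    refine GrothLib.Dual.comul_eq_primitive fun f g => ?_
    rw [← hP', ← hP', ← hP', D.leibniz, smul_eq_mul, smul_eq_mul]
    show (f * D g) (1 : RUEA φ) + (g * D f) (1 : RUEA φ) = _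
    rw [GrothLib.Dual.conv_apply_of_groupLike hone, GrothLib.Dual.conv_apply_of_groupLike hone]
    ring
  obtain ⟨x, hx⟩ := exists_rι_of_primitive φ (Module.finBasis k L) hprim
  refine ⟨x, Derivation.ext fun f => WithConv.ext (LinearMap.ext fun a => ?_)⟩
  show dDer φ x f a = D f a
  have h1 := congrArg (fun z => CartDual.ev₂ k (RUEA φ) z (a ⊗ₜ[k] (1 : RUEA φ))) (LinearMap.congr_fun hD f)
  simp only [LinearMap.comp_apply] at h1
  rw [CartDual.ev₂_coalgebra_comul_tmul, mul_one] at h1
  have key : ∀ z : HO φ ⊗[k] HO φ,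
      CartDual.ev₂ k (RUEA φ) (LinearMap.lTensor (HO φ) D.toLinearMap z) (a ⊗ₜ[k] (1 : RUEA φ)) =
        CartDual.ev₂ k (RUEA φ) z (a ⊗ₜ[k] P) := by
    intro z
    induction z using TensorProduct.induction_on with
    | zero => simp
    | tmul g h => rw [LinearMap.lTensor_tmul, CartDual.ev₂_tmul, CartDual.ev₂_tmul, ← hP']; rfl
    | add g h hg hh => simp only [map_add, LinearMap.add_apply, hg, hh]
  rw [key, CartDual.ev₂_coalgebra_comul_tmul] at h1
  rw [dDer_apply, hx]
  exact h1.symm

lemma dDer_injective : Function.Injective (dDer φ) := by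
  intro x y h
  refine rι_injective (Module.finBasis k L) φ (GrothLib.Dual.eq_of_forall_apply (R := k) fun f => ?_)
  have := congrArg (fun D : Derivation k (HO φ) (HO φ) => D f (1 : RUEA φ)) h
  simpa [dDer_apply] using this

end GrothLib.PLie
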