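import Groth.Agent.Lib.PLie.Restricted
import Mathlib.RingTheory.HopfAlgebra.Basic
import Mathlib.RingTheory.TensorProduct.Maps
import Mathlib.Algebra.Algebra.Opposite
import Mathlib.LinearAlgebra.TensorProduct.Basis
import Mathlib.Data.Nat.Choose.Sum

/-!
# The restricted enveloping algebra is a cocommutative Hopf algebra; its primitive elements
-/

universe u v w

namespace GrothLib.PLie

open LieAlgebra TensorProduct

attribute [local instance 100] LieRing.ofAssociativeRing

variable {k : Type u} [CommRing k] {p : ℕ} [Fact p.Prime] [CharP k p] {L : Type v} [LieRing L] [LieAlgebra k L]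
  {A : Type w} [Ring A] [Algebra k A] (φ : _root_.PLie.PMap k p L)

section Lift

variable (f : L →ₗ[k] A) (hlie : ∀ x y, f ⁅x, y⁆ = f x * f y - f y * f x) (hp : ∀ x, f (φ x) = f x ^ p)

/-- The universal property of the restricted enveloping algebra. -/
noncomputable def rlift : RUEA φ →ₐ[k] A :=
  RingQuot.liftAlgHom k ⟨UniversalEnvelopingAlgebra.lift k
      ({ f with map_lie' := fun {x y} => (hlie x y).trans (LieRing.of_associative_ring_bracket _ _).symm } : L →ₗ⁅k⁆ A),
    fun _ _ h => by
      obtain ⟨x⟩ := h
      simp only [map_pow, UniversalEnvelopingAlgebra.lift_ι_apply]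
      exact (hp x).symm⟩

omit [Fact p.Prime] in
@[simp] lemma rlift_rι (x : L) : rlift φ f hlie hp (rι φ x) = f x := by
  rw [rlift, rι_apply, rmk, RingQuot.liftAlgHom_mkAlgHom_apply, UniversalEnvelopingAlgebra.lift_ι_apply]
  rfl

end Lift

omit [Fact p.Prime] in
lemma algHom_ext {F G : RUEA φ →ₐ[k] A} (h : ∀ x, F (rι φ x) = G (rι φ x)) : F = G := by
  refine AlgHom.ext fun a => ?_
  induction a using rinduction with
  | halg r => simp
  | hι x => exact h x
  | hadd a c ha hc => rw [map_add, map_add, ha, hc]
  | hmul a c ha hc => rw [map_mul, map_mul, ha, hc]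

/-- The linear map `x ↦ x ⊗ 1 + 1 ⊗ x`. -/
noncomputable def primMap : L →ₗ[k] RUEA φ ⊗[k] RUEA φ :=
  (Algebra.TensorProduct.includeLeft (R := k) (S := k) (A := RUEA φ) (B := RUEA φ)).toLinearMap ∘ₗ rι φ +
    (Algebra.TensorProduct.includeRight (R := k) (A := RUEA φ) (B := RUEA φ)).toLinearMap ∘ₗ rι φ

omit [Fact p.Prime] in
lemma primMap_apply (x : L) : primMap φ x = rι φ x ⊗ₜ[k] 1 + 1 ⊗ₜ[k] rι φ x := rfl

/-- The comultiplication. -/
noncomputable def rcomul : RUEA φ →ₐ[k] RUEA φ ⊗[k] RUEA φ :=
  rlift φ (primMap φ)
    (fun x y => by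
      simp only [primMap_apply, rι_lie, add_mul, mul_add, Algebra.TensorProduct.tmul_mul_tmul, one_mul, mul_one,
        TensorProduct.sub_tmul, TensorProduct.tmul_sub]
      abel)
    (fun x => by
      have hc : Commute (rι φ x ⊗ₜ[k] (1 : RUEA φ)) ((1 : RUEA φ) ⊗ₜ[k] rι φ x) := by
        rw [Commute, SemiconjBy, Algebra.TensorProduct.tmul_mul_tmul, Algebra.TensorProduct.tmul_mul_tmul]
        simp
      have hp0 : (p : RUEA φ ⊗[k] RUEA φ) = 0 := natCast_p_eq_zero (R := k)
      rw [primMap_apply, primMap_apply, hc.add_pow_prime_eq (Fact.out : p.Prime), hp0, zero_mul, zero_mul, zero_mul, add_zero,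
        Algebra.TensorProduct.tmul_pow, Algebra.TensorProduct.tmul_pow, one_pow, rι_pmap])

@[simp] lemma rcomul_rι (x : L) : rcomul φ (rι φ x) = rι φ x ⊗ₜ[k] 1 + 1 ⊗ₜ[k] rι φ x := by
  rw [rcomul, rlift_rι, primMap_apply]

/-- The counit. -/
noncomputable def rcounit : RUEA φ →ₐ[k] k :=
  rlift φ (0 : L →ₗ[k] k) (fun x y => by simp) (fun x => by simp [zero_pow (Fact.out : p.Prime).ne_zero])

@[simp] lemma rcounit_rι (x : L) : rcounit φ (rι φ x) = 0 := by
  rw [rcounit, rlift_rι, LinearMap.zero_apply]

noncomputable instance instBialgebra : Bialgebra k (RUEA φ) :=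
  Bialgebra.ofAlgHom (rcomul φ) (rcounit φ)
    (algHom_ext φ fun x => by
      simp [map_add, TensorProduct.add_tmul, TensorProduct.tmul_add, Algebra.TensorProduct.one_def]
      abel)
    (algHom_ext φ fun x => by simp [map_add])
    (algHom_ext φ fun x => by simp [map_add])

lemma comul_eq (a : RUEA φ) : Coalgebra.comul (R := k) a = rcomul φ a := rfl

lemma counit_eq (a : RUEA φ) : Coalgebra.counit (R := k) a = rcounit φ a := rfl

noncomputable instance instIsCocomm : Coalgebra.IsCocomm k (RUEA φ) where
  comm_comp_comul := by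
    have h : (Algebra.TensorProduct.comm k (RUEA φ) (RUEA φ)).toAlgHom.comp (rcomul φ) = rcomul φ :=
      algHom_ext φ fun x => by simp [map_add]; abel
    exact LinearMap.ext fun a => AlgHom.congr_fun h a

lemma neg_pow_p {B : Type*} [Ring B] [Algebra k B] (y : B) : (-y) ^ p = -(y ^ p) := by
  have h1 : ((-1 : k) ^ p) = -1 := by
    rcases (Fact.out : p.Prime).eq_two_or_odd' with h | h
    · subst h; simp [CharTwo.neg_eq]
    · exact h.neg_one_pow
  rw [show -y = (-1 : k) • y by simp, smul_pow, h1, neg_one_smul]

/-- The antipode as an anti-homomorphism. -/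
noncomputable def rantipodeHom : RUEA φ →ₐ[k] (RUEA φ)ᵐᵒᵖ :=
  rlift φ (-((MulOpposite.opLinearEquiv k).toLinearMap ∘ₗ rι φ))
    (fun x y => by
      simp only [LinearMap.neg_apply, LinearMap.comp_apply, LinearEquiv.coe_coe, MulOpposite.coe_opLinearEquiv,
        rι_lie, MulOpposite.op_sub, MulOpposite.op_mul]
      noncomm_ring)
    (fun x => by
      simp only [LinearMap.neg_apply, LinearMap.comp_apply, LinearEquiv.coe_coe, MulOpposite.coe_opLinearEquiv,
        neg_pow_p (k := k), rι_pmap, MulOpposite.op_pow])

/-- The antipode. -/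
noncomputable def rantipode : RUEA φ →ₗ[k] RUEA φ :=
  (MulOpposite.opLinearEquiv k).symm.toLinearMap ∘ₗ (rantipodeHom φ).toLinearMap

lemma rantipode_one : rantipode φ 1 = 1 := by simp [rantipode]

lemma rantipode_mul (a c : RUEA φ) : rantipode φ (a * c) = rantipode φ c * rantipode φ a := by
  simp [rantipode]

lemma rantipode_rι (x : L) : rantipode φ (rι φ x) = -rι φ x := by
  simp [rantipode, rantipodeHom]

lemma antipode_left (u : RUEA φ) : ∀ w : RUEA φ ⊗[k] RUEA φ,
    LinearMap.mul' k (RUEA φ) ((rantipode φ).rTensor (RUEA φ) (rcomul φ u * w)) =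
      rcounit φ u • LinearMap.mul' k (RUEA φ) ((rantipode φ).rTensor (RUEA φ) w) := by
  induction u using rinduction with
  | halg r => intro w; rw [AlgHom.commutes, AlgHom.commutes, ← Algebra.smul_def, map_smul, map_smul]; simp
  | hι x =>
    intro w
    rw [rcounit_rι, zero_smul, rcomul_rι]
    induction w using TensorProduct.induction_on with
    | zero => simp
    | tmul a c =>
      simp [add_mul, map_add, rantipode_mul, rantipode_rι, mul_assoc]
    | add a c ha hc => rw [mul_add, map_add, map_add, ha, hc, add_zero]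
  | hadd a c ha hc => intro w; rw [map_add, map_add, add_mul, map_add, map_add, ha, hc, add_smul]
  | hmul a c ha hc => intro w; rw [map_mul (rcomul φ), map_mul (rcounit φ), mul_assoc, ha, hc, mul_smul]

lemma antipode_right (u : RUEA φ) : ∀ w : RUEA φ ⊗[k] RUEA φ,
    LinearMap.mul' k (RUEA φ) ((rantipode φ).lTensor (RUEA φ) (w * rcomul φ u)) =
      rcounit φ u • LinearMap.mul' k (RUEA φ) ((rantipode φ).lTensor (RUEA φ) w) := by
  induction u using rinduction with
  | halg r => intro w; rw [AlgHom.commutes, AlgHom.commutes, ← Algebra.commutes, ← Algebra.smul_def, map_smul, map_smul]; simp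
  | hι x =>
    intro w
    rw [rcounit_rι, zero_smul, rcomul_rι]
    induction w using TensorProduct.induction_on with
    | zero => simp
    | tmul a c =>
      simp [mul_add, map_add, rantipode_mul, rantipode_rι, mul_assoc]
    | add a c ha hc => rw [add_mul, map_add, map_add, ha, hc, add_zero]
  | hadd a c ha hc => intro w; rw [map_add, map_add, mul_add, map_add, map_add, ha, hc, add_smul]
  | hmul a c ha hc => intro w; rw [map_mul (rcomul φ), map_mul (rcounit φ), ← mul_assoc, hc, ha, smul_smul, mul_comm]

noncomputable instance instHopfAlgebra : HopfAlgebra k (RUEA φ) where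
  antipode := rantipode φ
  mul_antipode_rTensor_comul := LinearMap.ext fun u => by
    have h := antipode_left φ u 1
    rw [mul_one, Algebra.TensorProduct.one_def, LinearMap.rTensor_tmul, LinearMap.mul'_apply, rantipode_one, mul_one,
      ← Algebra.algebraMap_eq_smul_one] at h
    exact h
  mul_antipode_lTensor_comul := LinearMap.ext fun u => by
    have h := antipode_right φ u 1
    rw [one_mul, Algebra.TensorProduct.one_def, LinearMap.lTensor_tmul, LinearMap.mul'_apply, rantipode_one, mul_one,
      ← Algebra.algebraMap_eq_smul_one] at h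
    exact h

/-- Binomial expansion of ordered products of `X i + Y i`. -/
lemma prod_expand : ∀ {d : ℕ} (x : Fin d → A) (a : Fin d → ℕ),
    ((List.ofFn fun i => ((x i ⊗ₜ[k] (1 : A) + (1 : A) ⊗ₜ[k] x i) ^ a i)).prod : A ⊗[k] A) =
      ∑ e : (i : Fin d) → Fin (a i + 1), ((∏ i, (a i).choose (e i)) : ℕ) •
        ((List.ofFn fun i => x i ^ (e i : ℕ)).prod ⊗ₜ[k] (List.ofFn fun i => x i ^ (a i - e i : ℕ)).prod) := by
  intro d
  induction d with
  | zero => intro x a; simp [Algebra.TensorProduct.one_def]
  | succ d ih =>
    intro x a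
    rw [List.ofFn_succ, List.prod_cons, ih (fun i => x i.succ) (fun i => a i.succ),
      ← (Fin.consEquiv fun i : Fin (d + 1) => Fin (a i + 1)).sum_comp, Fintype.sum_prod_type]
    have hc : Commute (x 0 ⊗ₜ[k] (1 : A)) ((1 : A) ⊗ₜ[k] x 0) := by
      rw [Commute, SemiconjBy, Algebra.TensorProduct.tmul_mul_tmul, Algebra.TensorProduct.tmul_mul_tmul]
      simp
    rw [hc.add_pow, Finset.sum_range, Finset.sum_mul]
    refine Finset.sum_congr rfl fun m _ => ?_
    rw [Finset.mul_sum]
    refine Finset.sum_congr rfl fun e _ => ?_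
    simp only [Fin.consEquiv, Equiv.coe_fn_mk, Fin.prod_univ_succ, Fin.cons_zero, Fin.cons_succ, List.ofFn_succ,
      List.prod_cons, Algebra.TensorProduct.tmul_pow, one_pow]
    rw [mul_smul_comm, mul_nsmul, ← (Nat.cast_commute _ _).eq, ← nsmul_eq_mul, smul_mul_assoc,
      Algebra.TensorProduct.tmul_mul_tmul, mul_one, one_mul, Algebra.TensorProduct.tmul_mul_tmul]

variable {d : ℕ} (b : Module.Basis (Fin d) k L)

/-- The component of the comultiplication of a monomial. -/
lemma rcomul_rmon (a : Fin d → Fin p) :
    rcomul φ (rmon b φ a) = ∑ e : (i : Fin d) → Fin ((a i : ℕ) + 1), ((∏ i, (a i : ℕ).choose (e i)) : ℕ) •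
      (rmon b φ (fun i => ⟨e i, lt_of_le_of_lt (Nat.le_of_lt_succ (e i).is_lt) (a i).is_lt⟩) ⊗ₜ[k]
        rmon b φ (fun i => ⟨(a i : ℕ) - e i, lt_of_le_of_lt (Nat.sub_le _ _) (a i).is_lt⟩)) := by
  have h := prod_expand (k := k) (fun i => rι φ (b i)) (fun i => (a i : ℕ))
  rw [rmon, ← List.ofFn_eq_map, map_list_prod, List.map_ofFn]
  simp only [Function.comp_def, map_pow, rcomul_rι]
  rw [h]
  simp only [rmon, ← List.ofFn_eq_map]

include b in
/-- Primitive elements of the restricted enveloping algebra come from the Lie algebra. -/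
theorem exists_rι_of_primitive [IsDomain k] {P : RUEA φ}
    (hP : Coalgebra.comul (R := k) P = P ⊗ₜ[k] 1 + 1 ⊗ₜ[k] P) : ∃ x : L, rι φ x = P := by
  classical
  set B := rbasis b φ with hB
  let T := Module.Basis.tensorProduct B B
  let z0 : Fin d → Fin p := fun _ => ⟨0, (Fact.out : p.Prime).pos⟩
  have hz0 : rmon b φ z0 = 1 := by simp [rmon, z0, List.map_const', List.prod_replicate]
  have hzero : ∀ a : Fin d → Fin p, a ≠ z0 → (∀ i, a ≠ expOne i) → B.repr P a = 0 := by
    intro a ha ha'
    obtain ⟨j, hj⟩ : ∃ j, (a j : ℕ) ≠ 0 := by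
      by_contra h
      push Not at h
      exact ha (funext fun i => Fin.ext (h i))
    let c : Fin d → Fin p := expOne j
    let c' : Fin d → Fin p := fun i => ⟨(a i : ℕ) - (c i : ℕ), lt_of_le_of_lt (Nat.sub_le _ _) (a i).is_lt⟩
    have hc0 : c ≠ z0 := fun h => by
      have := congrFun h j; simp [c, expOne, z0] at this
    have hc'0 : c' ≠ z0 := fun h => by
      refine ha' j (funext fun i => Fin.ext ?_)
      have h1 : (a i : ℕ) - (c i : ℕ) = 0 := congrArg Fin.val (congrFun h i)
      rcases eq_or_ne i j with rfl | hij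
      · simp only [c, expOne, if_true] at h1 ⊢; omega
      · simp only [c, expOne, if_neg hij] at h1 ⊢; omega
    have hsum : ∀ i, (c i : ℕ) + (c' i : ℕ) = a i := fun i => by
      show (c i : ℕ) + ((a i : ℕ) - (c i : ℕ)) = a i
      rcases eq_or_ne i j with rfl | hij
      · simp only [c, expOne, if_true]; omega
      · simp only [c, expOne, if_neg hij]; omega
    -- both sides at the coordinate `(c, c')`
    have hR : T.repr (P ⊗ₜ[k] (1 : RUEA φ) + (1 : RUEA φ) ⊗ₜ[k] P) (c, c') = 0 := by
      simp only [T, map_add, Finsupp.add_apply, Module.Basis.tensorProduct_repr_tmul_apply,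
        ← hz0, ← rbasis_apply, ← hB, Module.Basis.repr_self, Finsupp.single_eq_of_ne hc0,
        Finsupp.single_eq_of_ne hc'0, smul_eq_mul, zero_mul, mul_zero, add_zero]
    rw [← hP, comul_eq] at hR
    conv at hR => lhs; rw [← B.sum_repr P]
    simp only [hB, rbasis_apply, map_sum, map_smul, rcomul_rmon, Finsupp.coe_finsetSum, Finset.sum_apply,
      Finsupp.coe_smul, Pi.smul_apply, map_nsmul] at hR
    simp only [← rbasis_apply, T, hB, Module.Basis.tensorProduct_repr_tmul_apply, Module.Basis.repr_self] at hR
    rw [Finset.sum_eq_single a] at hR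
    · rw [Finset.sum_eq_single (fun i => ⟨c i, by have := hsum i; omega⟩)] at hR
      · simp only [smul_eq_mul] at hR
        rw [Finsupp.single_apply, Finsupp.single_apply, if_pos, if_pos] at hR
        · simp only [mul_one, nsmul_eq_mul] at hR
          rcases mul_eq_zero.1 hR with h | h
          · exact h
          · exfalso
            rw [Finset.prod_eq_single j (fun i _ hij => by simp [c, expOne, hij]) (by simp)] at h
            simp only [c, expOne, if_true, Nat.choose_one_right] at h
            have hd := (CharP.cast_eq_zero_iff k p _).1 h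
            have := Nat.le_of_dvd (Nat.pos_of_ne_zero hj) hd
            have := (a j).is_lt
            omega
        · exact funext fun i => Fin.ext (by simp [c'])
        · rfl
      · intro e _ he
        simp only [smul_eq_mul]
        rw [Finsupp.single_apply, Finsupp.single_apply]
        split_ifs with h1 h2
        all_goals first
          | exact (he (funext fun i => Fin.ext (congrArg Fin.val (congrFun h1 i) :))).elim
          | exact (he (funext fun i => Fin.ext (congrArg Fin.val (congrFun h2 i) :))).elim
          | simp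
      · simp
    · intro e _ he
      rw [smul_eq_mul, Finset.sum_eq_zero, mul_zero]
      intro f _
      simp only [smul_eq_mul, Finsupp.single_apply]
      split_ifs with h1 h2
      all_goals first
        | (refine absurd (funext fun i => Fin.ext ?_) he
           have e1 : (f i : ℕ) = c i := by
             first | exact congrArg Fin.val (congrFun h1 i) | exact congrArg Fin.val (congrFun h2 i)
           have e2 : (e i : ℕ) - (f i : ℕ) = c' i := by
             first | exact congrArg Fin.val (congrFun h1 i) | exact congrArg Fin.val (congrFun h2 i)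
           have := (f i).is_lt
           have := hsum i
           omega)
        | simp
    · simp
  refine ⟨∑ i, B.repr P (expOne i) • b i, ?_⟩
  have hinj : Function.Injective (expOne (p := p) (d := d)) := fun j l h => by
    have := congrFun h j
    simp only [expOne, if_true] at this
    split_ifs at this with h'
    · exact h'
    · simp at this
  have hne : ∀ i : Fin d, expOne (p := p) i ≠ z0 := fun i h => by
    have := congrFun h i; simp [expOne, z0] at this
  have h0 : B.repr P z0 = 0 := by
    have h2 := congrArg (fun w => T.repr w (z0, z0)) hP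
    rw [comul_eq] at h2
    conv at h2 => lhs; rw [← B.sum_repr P]
    simp only [hB, rbasis_apply, map_sum, map_smul, rcomul_rmon, Finsupp.coe_finsetSum, Finset.sum_apply,
      Finsupp.coe_smul, Pi.smul_apply, map_nsmul, map_add, Finsupp.add_apply] at h2
    simp only [← hz0, ← rbasis_apply, T, hB, Module.Basis.tensorProduct_repr_tmul_apply, Module.Basis.repr_self] at h2
    rw [Finset.sum_eq_single z0] at h2
    · simp [z0, Finsupp.single_apply] at h2
      exact h2
    · intro e _ he
      rw [smul_eq_mul, Finset.sum_eq_zero, mul_zero]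
      intro f _
      simp only [smul_eq_mul, Finsupp.single_apply]
      split_ifs with h1 h3
      all_goals first
        | (refine absurd (funext fun i => Fin.ext ?_) he
           have e1 : (f i : ℕ) = 0 := by
             first | exact congrArg Fin.val (congrFun h1 i) | exact congrArg Fin.val (congrFun h3 i)
           have e2 : (e i : ℕ) - (f i : ℕ) = 0 := by
             first | exact congrArg Fin.val (congrFun h1 i) | exact congrArg Fin.val (congrFun h3 i)
           show (e i : ℕ) = 0
           omega)
        | simp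
    · simp
  rw [map_sum]
  simp only [map_smul, ← rmon_expOne b φ, ← rbasis_apply]
  conv_rhs => rw [← B.sum_repr P]
  rw [← Finset.sum_subset (s₁ := Finset.univ.image (expOne (p := p) (d := d))) (Finset.subset_univ _)]
  · rw [Finset.sum_image fun i _ j _ h => hinj h]
  · intro a _ ha
    have : B.repr P a = 0 := by
      rcases eq_or_ne a z0 with rfl | h
      · exact h0
      · exact hzero a h fun i h' => ha (by simp [h'])
    rw [this, zero_smul]

end GrothLib.PLie
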